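import Mathlib.Algebra.Homology.DerivedCategory.Ext.ExactSequences

/-!
# Lifting and extending morphisms when an `Ext¹` vanishes; vanishing of `Ext` in short exact sequences

All statements are in an abelian category with `HasExt`.
-/

set_option autoImplicit false
universe w v u

open CategoryTheory CategoryTheory.Limits CategoryTheory.Abelian

namespace K697.ExtHom

variable {C : Type u} [Category.{v} C] [Abelian C] [HasExt.{w} C]

/-- If `Ext¹(X, S.X₁) = 0` then every `X ⟶ S.X₃` lifts to `S.X₂`. -/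
theorem exists_lift {S : ShortComplex C} (hS : S.ShortExact) {X : C}
    (h : Subsingleton (Ext X S.X₁ 1)) (f : X ⟶ S.X₃) : ∃ g : X ⟶ S.X₂, g ≫ S.g = f := by
  obtain ⟨x₂, hx₂⟩ := Ext.covariant_sequence_exact₃ X hS (Ext.mk₀ f) (zero_add 1) (Subsingleton.elim _ _)
  obtain ⟨g, rfl⟩ := (Ext.mk₀_bijective X S.X₂).2 x₂
  rw [Ext.mk₀_comp_mk₀] at hx₂
  exact ⟨g, (Ext.mk₀_bijective X S.X₃).1 hx₂⟩

/-- If `Ext¹(S.X₃, Y) = 0` then every `S.X₁ ⟶ Y` extends to `S.X₂`. -/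
theorem exists_desc {S : ShortComplex C} (hS : S.ShortExact) {Y : C}
    (h : Subsingleton (Ext S.X₃ Y 1)) (f : S.X₁ ⟶ Y) : ∃ g : S.X₂ ⟶ Y, S.f ≫ g = f := by
  obtain ⟨x₂, hx₂⟩ := Ext.contravariant_sequence_exact₁ hS Y (Ext.mk₀ f) (add_zero 1) (Subsingleton.elim _ _)
  obtain ⟨g, rfl⟩ := (Ext.mk₀_bijective S.X₂ Y).2 x₂
  rw [Ext.mk₀_comp_mk₀] at hx₂
  exact ⟨g, (Ext.mk₀_bijective S.X₁ Y).1 hx₂⟩

theorem subsingleton_of_forall {X Y : C} {n : ℕ} (h : ∀ x : Ext X Y n, x = 0) : Subsingleton (Ext X Y n) :=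
  ⟨fun a b => (h a).trans (h b).symm⟩

/-- `Ext^n(X₁, Y) = 0` if `Ext^n(X₂, Y) = 0` and `Ext^{n+1}(X₃, Y) = 0`. -/
theorem subsingleton_fst {S : ShortComplex C} (hS : S.ShortExact) {Y : C} {n m : ℕ} (hnm : 1 + n = m)
    (h₂ : Subsingleton (Ext S.X₂ Y n)) (h₃ : Subsingleton (Ext S.X₃ Y m)) : Subsingleton (Ext S.X₁ Y n) := by
  refine subsingleton_of_forall fun x => ?_
  obtain ⟨x₂, hx₂⟩ := Ext.contravariant_sequence_exact₁ hS Y x hnm (Subsingleton.elim _ _)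
  rw [← hx₂, Subsingleton.elim x₂ 0, Ext.comp_zero]

/-- `Ext^n(X₂, Y) = 0` if `Ext^n(X₁, Y) = 0` and `Ext^n(X₃, Y) = 0`. -/
theorem subsingleton_snd {S : ShortComplex C} (hS : S.ShortExact) {Y : C} {n : ℕ}
    (h₁ : Subsingleton (Ext S.X₁ Y n)) (h₃ : Subsingleton (Ext S.X₃ Y n)) : Subsingleton (Ext S.X₂ Y n) := by
  refine subsingleton_of_forall fun x => ?_
  obtain ⟨x₃, hx₃⟩ := Ext.contravariant_sequence_exact₂ hS Y x (Subsingleton.elim _ _)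
  rw [← hx₃, Subsingleton.elim x₃ 0, Ext.comp_zero]

/-- `Ext^{n+1}(X₃, Y) = 0` if `Ext^{n+1}(X₂, Y) = 0` and `Ext^n(X₁, Y) = 0`. -/
theorem subsingleton_trd {S : ShortComplex C} (hS : S.ShortExact) {Y : C} {n m : ℕ} (hnm : 1 + n = m)
    (h₁ : Subsingleton (Ext S.X₁ Y n)) (h₂ : Subsingleton (Ext S.X₂ Y m)) : Subsingleton (Ext S.X₃ Y m) := by
  refine subsingleton_of_forall fun x => ?_
  obtain ⟨x₁, hx₁⟩ := Ext.contravariant_sequence_exact₃ hS Y x (Subsingleton.elim _ _) hnm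
  rw [← hx₁, Subsingleton.elim x₁ 0, Ext.comp_zero]

/-- `Ext^n(Y, X₂) = 0` if `Ext^n(Y, X₁) = 0` and `Ext^n(Y, X₃) = 0`. -/
theorem subsingleton_cov_snd {S : ShortComplex C} (hS : S.ShortExact) {Y : C} {n : ℕ}
    (h₁ : Subsingleton (Ext Y S.X₁ n)) (h₃ : Subsingleton (Ext Y S.X₃ n)) : Subsingleton (Ext Y S.X₂ n) := by
  refine subsingleton_of_forall fun x => ?_
  obtain ⟨x₁, hx₁⟩ := Ext.covariant_sequence_exact₂ Y hS x (Subsingleton.elim _ _)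
  rw [← hx₁, Subsingleton.elim x₁ 0, Ext.zero_comp]

/-- `Ext^n(Y, X₃) = 0` if `Ext^n(Y, X₂) = 0` and `Ext^{n+1}(Y, X₁) = 0`. -/
theorem subsingleton_cov_trd {S : ShortComplex C} (hS : S.ShortExact) {Y : C} {n m : ℕ} (hnm : n + 1 = m)
    (h₂ : Subsingleton (Ext Y S.X₂ n)) (h₁ : Subsingleton (Ext Y S.X₁ m)) : Subsingleton (Ext Y S.X₃ n) := by
  refine subsingleton_of_forall fun x => ?_
  obtain ⟨x₂, hx₂⟩ := Ext.covariant_sequence_exact₃ Y hS x hnm (Subsingleton.elim _ _)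
  rw [← hx₂, Subsingleton.elim x₂ 0, Ext.zero_comp]

/-- `Ext^{n+1}(Y, X₁) = 0` if `Ext^{n+1}(Y, X₂) = 0` and `Ext^n(Y, X₃) = 0`. -/
theorem subsingleton_cov_fst {S : ShortComplex C} (hS : S.ShortExact) {Y : C} {n m : ℕ} (hnm : n + 1 = m)
    (h₂ : Subsingleton (Ext Y S.X₂ m)) (h₃ : Subsingleton (Ext Y S.X₃ n)) : Subsingleton (Ext Y S.X₁ m) := by
  refine subsingleton_of_forall fun x => ?_
  obtain ⟨x₃, hx₃⟩ := Ext.covariant_sequence_exact₁ Y hS x (Subsingleton.elim _ _) hnm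
  rw [← hx₃, Subsingleton.elim x₃ 0, Ext.zero_comp]

/-- Transport of the vanishing of `Ext` along isomorphisms. -/
theorem subsingleton_of_iso {X X' Y Y' : C} (e : X ≅ X') (e' : Y ≅ Y') {n : ℕ} (h : Subsingleton (Ext X Y n)) :
    Subsingleton (Ext X' Y' n) := by
  refine subsingleton_of_forall fun x => ?_
  have h1 : ((Ext.mk₀ e.hom).comp x (zero_add n)).comp (Ext.mk₀ e'.inv) (add_zero n) = 0 := Subsingleton.elim _ _
  have h2 : (Ext.mk₀ e.inv).comp ((((Ext.mk₀ e.hom).comp x (zero_add n)).comp (Ext.mk₀ e'.inv) (add_zero n)).comp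
      (Ext.mk₀ e'.hom) (add_zero n)) (zero_add n) = x := by
    rw [Ext.comp_assoc_of_third_deg_zero, Ext.mk₀_comp_mk₀, e'.inv_hom_id, Ext.comp_mk₀_id,
      Ext.mk₀_comp_mk₀_assoc, e.inv_hom_id, Ext.mk₀_id_comp]
  rw [← h2, h1, Ext.zero_comp, Ext.comp_zero]

end K697.ExtHom
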