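import Groth.Agent.S0484
import Groth.Agent.S0491
import Groth.Agent.PerfB.TwistDer
import Groth.Agent.Fga.HShift
import Groth.Agent.VBPn.K697.ExtHom
import Mathlib.Algebra.Homology.DerivedCategory.Ext.MapBijective
import Mathlib.CategoryTheory.Abelian.GrothendieckCategory.HasExt

/-!
# `Ext^i(O(a), M) ≅ H^i(P^n, M(-a))`

* `exists_ext_equiv`: an equivalence of abelian categories preserves `Ext` (enough injectives);
* `exists_extO`: `Ext^i(O(a), M) ≃+ H^i(M(-a))` on `P^n_A`, `A` any commutative ring;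
* `exists_extOO`: `Ext^i(O(a), O(b)) ≃+ H^i(O(b - a))`;
* `exists_lift`: a morphism `O(a) ⟶ S.X₃` lifts to `S.X₂` if `H^1(S.X₁(-a)) = 0`.
-/

set_option autoImplicit false
universe w v u

open CategoryTheory CategoryTheory.Limits AlgebraicGeometry Abelian

namespace K697.ExtTw

section General

universe w' v' u'

variable {C : Type u} [Category.{v} C] [Abelian C] {D : Type u'} [Category.{v'} D] [Abelian D]
  [HasExt.{w} C] [HasExt.{w'} D]

/-- An equivalence of abelian categories preserves `Ext`. -/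
theorem exists_ext_equiv [EnoughInjectives C] (e : C ≌ D) (X Y : C) (n : ℕ) :
    Nonempty (Ext X Y n ≃+ Ext (e.functor.obj X) (e.functor.obj Y) n) := by
  have : e.functor.Additive := e.functor.additive_of_preserves_binary_products
  exact ⟨AddEquiv.ofBijective _ (e.functor.mapExt_bijective_of_preservesInjectiveObjects X Y n)⟩

/-- `Ext` only depends on the isomorphism classes. -/
noncomputable def extIso {X X' Y Y' : C} (e : X ≅ X') (e' : Y ≅ Y') (n : ℕ) : Ext X Y n ≃+ Ext X' Y' n where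
  toFun x := (Ext.mk₀ e.inv).comp (x.comp (Ext.mk₀ e'.hom) (add_zero n)) (zero_add n)
  invFun x := (Ext.mk₀ e.hom).comp (x.comp (Ext.mk₀ e'.inv) (add_zero n)) (zero_add n)
  left_inv x := by
    dsimp only
    rw [Ext.comp_assoc (Ext.mk₀ e.inv) _ (Ext.mk₀ e'.inv) (zero_add n) (add_zero n) (by omega),
      Ext.comp_assoc x (Ext.mk₀ e'.hom) (Ext.mk₀ e'.inv) (add_zero n) (add_zero 0) (by omega),
      Ext.mk₀_comp_mk₀, e'.hom_inv_id, Ext.comp_mk₀_id,
      ← Ext.comp_assoc (Ext.mk₀ e.hom) (Ext.mk₀ e.inv) x (zero_add 0) (zero_add n) (by omega),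
      Ext.mk₀_comp_mk₀, e.hom_inv_id, Ext.mk₀_id_comp]
  right_inv x := by
    dsimp only
    rw [Ext.comp_assoc (Ext.mk₀ e.hom) _ (Ext.mk₀ e'.hom) (zero_add n) (add_zero n) (by omega),
      Ext.comp_assoc x (Ext.mk₀ e'.inv) (Ext.mk₀ e'.hom) (add_zero n) (add_zero 0) (by omega),
      Ext.mk₀_comp_mk₀, e'.inv_hom_id, Ext.comp_mk₀_id,
      ← Ext.comp_assoc (Ext.mk₀ e.inv) (Ext.mk₀ e.hom) x (zero_add 0) (zero_add n) (by omega),
      Ext.mk₀_comp_mk₀, e.inv_hom_id, Ext.mk₀_id_comp]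
  map_add' x y := by
    rw [Ext.add_comp, Ext.comp_add]

end General

section Proj

open Groth.Agent.PerfB.TwistDer

variable (n : ℕ) (A : Type u) [CommRing A] [HasExt.{u} (CohB1.ProjSpace n A).Modules]

theorem isGrothendieckAbelian (X : Scheme.{u}) : IsGrothendieckAbelian.{u} X.Modules :=
  Groth.Agent.S0484.result _ X.ringCatSheaf

theorem enoughInjectives (X : Scheme.{u}) : EnoughInjectives X.Modules := by
  have := isGrothendieckAbelian X
  infer_instance

theorem hasExt (X : Scheme.{u}) : HasExt.{u} X.Modules := by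
  have := isGrothendieckAbelian X
  infer_instance

/-- `Ext^i(O, M) ≃+ H^i(M)`. -/
theorem exists_ext_unit (X : Scheme.{u}) [HasExt.{u} X.Modules] (M : X.Modules) (i : ℕ) :
    Nonempty (Ext (C := X.Modules) (Coh.structureModule X) M i ≃+ Coh.HH X M i) :=
  haveI : HasExt.{u} (SheafOfModules.{u} X.ringCatSheaf) := inferInstanceAs (HasExt.{u} X.Modules)
  Groth.Agent.S0491.result (Opens.grothendieckTopology X) X.ringCatSheaf M i

/-- `Ext^i(O(a), M) ≃+ H^i(M(-a))`. -/
theorem exists_extO (a : ℤ) (M : (CohB1.ProjSpace n A).Modules) (i : ℕ) :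
    Nonempty (Ext (Twist.twistProjSpace n A a) M i ≃+
      Coh.HH (CohB1.ProjSpace n A) (CohB1.tensorMod M (Twist.twistProjSpace n A (-a))) i) := by
  have := enoughInjectives (CohB1.ProjSpace n A)
  obtain ⟨e₁⟩ := exists_ext_equiv (twMEquiv n A (-a)) (Twist.twistProjSpace n A a) M i
  have e₂ : (twMEquiv n A (-a)).functor.obj (Twist.twistProjSpace n A a) ≅
      Coh.structureModule (CohB1.ProjSpace n A) := twMul n A a (-a) 0 (by ring) ≪≫ (twZero n A).symm
  have e₃ := extIso e₂ (Iso.refl ((twMEquiv n A (-a)).functor.obj M)) i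
  obtain ⟨e₄⟩ := exists_ext_unit (CohB1.ProjSpace n A) ((twMEquiv n A (-a)).functor.obj M) i
  exact ⟨e₁.trans (e₃.trans e₄)⟩

/-- `Ext^i(O(a), O(b)) ≃+ H^i(O(b - a))`. -/
theorem exists_extOO (a b c : ℤ) (h : a + c = b) (i : ℕ) :
    Nonempty (Ext (Twist.twistProjSpace n A a) (Twist.twistProjSpace n A b) i ≃+
      Coh.HH (CohB1.ProjSpace n A) (Twist.twistProjSpace n A c) i) := by
  have := enoughInjectives (CohB1.ProjSpace n A)
  obtain ⟨e₁⟩ := exists_ext_equiv (twMEquiv n A (-a)) (Twist.twistProjSpace n A a) (Twist.twistProjSpace n A b) i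
  have e₂ : (twMEquiv n A (-a)).functor.obj (Twist.twistProjSpace n A a) ≅
      Coh.structureModule (CohB1.ProjSpace n A) := twMul n A a (-a) 0 (by ring) ≪≫ (twZero n A).symm
  have e₂' : (twMEquiv n A (-a)).functor.obj (Twist.twistProjSpace n A b) ≅
      Twist.twistProjSpace n A c := twMul n A b (-a) c (by omega)
  have e₃ := extIso e₂ e₂' i
  obtain ⟨e₄⟩ := exists_ext_unit (CohB1.ProjSpace n A) (Twist.twistProjSpace n A c) i
  exact ⟨e₁.trans (e₃.trans e₄)⟩

end Proj

section Lift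

variable (n : ℕ) (A : Type u) [CommRing A]

/-- A morphism `O(a) ⟶ S.X₃` lifts to `S.X₂` if `H^1(S.X₁(-a)) = 0`. -/
theorem exists_lift {S : ShortComplex (CohB1.ProjSpace n A).Modules} (hS : S.ShortExact) (a : ℤ)
    (h : Subsingleton (Coh.HH (CohB1.ProjSpace n A) (CohB1.tensorMod S.X₁ (Twist.twistProjSpace n A (-a))) 1))
    (f : Twist.twistProjSpace n A a ⟶ S.X₃) : ∃ g : Twist.twistProjSpace n A a ⟶ S.X₂, g ≫ S.g = f := by
  have := hasExt (CohB1.ProjSpace n A)
  obtain ⟨e⟩ := exists_extO n A a S.X₁ 1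
  exact K697.ExtHom.exists_lift hS (e.toEquiv.subsingleton_congr.mpr h) f

/-- A morphism `∐ O(a i) ⟶ S.X₃` lifts to `S.X₂` if all `H^1(S.X₁(-a i)) = 0`. -/
theorem exists_lift_sigma {ι : Type} [Finite ι] {S : ShortComplex (CohB1.ProjSpace n A).Modules} (hS : S.ShortExact)
    (a : ι → ℤ)
    (h : ∀ i, Subsingleton (Coh.HH (CohB1.ProjSpace n A)
      (CohB1.tensorMod S.X₁ (Twist.twistProjSpace n A (-(a i)))) 1))
    (f : (∐ fun i => Twist.twistProjSpace n A (a i)) ⟶ S.X₃) :
    ∃ g : (∐ fun i => Twist.twistProjSpace n A (a i)) ⟶ S.X₂, g ≫ S.g = f := by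
  choose g hg using fun i => exists_lift n A hS (a i) (h i)
    (Sigma.ι (fun i => Twist.twistProjSpace n A (a i)) i ≫ f)
  refine ⟨Sigma.desc g, ?_⟩
  ext i
  rw [Sigma.ι_desc_assoc, hg]

end Lift

end K697.ExtTw
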