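import Groth.Agent.VBPn.K697.Lin
import Groth.Agent.VarietyB.TwistMul
import Groth.Agent.Ega3A.TwistBC
import Groth.Agent.PerfB.ModExact

/-!
# The exact sequence `0 → O(m) → O(m + i) → g_* O(m + i) → 0` of a hypersurface given by a graded quotient

`f : 𝒜 → ℬ` a degreewise surjective graded ring homomorphism between graded domains, whose kernel is generated by a
homogeneous element `s ≠ 0` of degree `i`; `g = Proj.map f`.
-/

set_option autoImplicit false
universe u

open CategoryTheory AlgebraicGeometry Limits TopologicalSpace Opposite TopCat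

namespace K697.HypSeq

open Twist Groth.Agent.Ega2.TwistBasic Groth.Agent.Ega3A.TwistBC Groth.Agent.VarietyB.TwistMul
open Groth.Agent.Sga5.ProjSurj Groth.Agent.PerfB.ModExact

/-- A morphism of modules which is injective on sections is a monomorphism. -/
theorem mono_of_injective {X : Scheme.{u}} {M N : X.Modules} (φ : M ⟶ N)
    (h : ∀ U : X.Opens, Function.Injective (φ.app U)) : Mono φ := by
  refine ⟨fun {Z} a b hab => ?_⟩
  refine hom_ext_apply _ _ fun U z => h U ?_
  exact congrArg (fun ψ : Z ⟶ N => ψ.app U z) hab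

section General

variable {R A R' B : Type u} [CommRing R] [CommRing A] [Algebra R A] [CommRing R'] [CommRing B]
  [Algebra R' B] {𝒜 : ℕ → Submodule R A} [GradedAlgebra 𝒜] {ℬ : ℕ → Submodule R' B} [GradedAlgebra ℬ]
  [IsDomain A] [IsDomain B]
  (f : 𝒜 →+*ᵍ ℬ)
  (hf : HomogeneousIdeal.irrelevant ℬ ≤ (HomogeneousIdeal.irrelevant 𝒜).map f)

theorem mono_mulMap {i : ℕ} (s : 𝒜 i) (hs : s.1 ≠ 0) {m m' : ℤ} (h : m + i = m') :
    Mono (mulMap (𝒜 := 𝒜) s h) := by
  refine mono_of_injective _ fun U => ?_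
  change Function.Injective (mulSect s h (op U))
  intro p q hpq
  apply Subtype.ext
  funext x
  have h1 : mulAt s h x.1 (p.1 x) = mulAt s h x.1 (q.1 x) := congrFun (congrArg Subtype.val hpq) x
  have h2 := congrArg Subtype.val h1
  rw [mulAt_coe, mulAt_coe] at h2
  apply Subtype.ext
  have hdom : IsDomain (Loc 𝒜 x.1) := IsLocalization.isDomain_localization
    x.1.asHomogeneousIdeal.toIdeal.primeCompl_le_nonZeroDivisors
  refine mul_left_cancel₀ ?_ h2
  intro h0
  apply hs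
  exact (IsLocalization.injective (Loc 𝒜 x.1) x.1.asHomogeneousIdeal.toIdeal.primeCompl_le_nonZeroDivisors)
    (h0.trans (map_zero _).symm)

omit [IsDomain A] [IsDomain B] in
theorem mulMap_pushHom {i : ℕ} (s : 𝒜 i) (hs : f s.1 = 0) {m m' : ℤ} (h : m + i = m') :
    mulMap (𝒜 := 𝒜) s h ≫ pushHom f hf m' = 0 := by
  refine hom_ext_apply _ _ fun U t => ?_
  refine Subtype.ext (funext fun y => Subtype.ext ?_)
  change locMap f hf y.1 (algebraMap A (Loc 𝒜 _) s.1 * _) = 0
  rw [map_mul, ← Localization.mk_one_eq_algebraMap]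
  have h1 := locMap_mk f hf y.1 s.1 1 (one_notMem _)
  have h2 : (Localization.mk s.1 (1 : (ProjectiveSpectrum.comap f hf y.1).asHomogeneousIdeal.toIdeal.primeCompl)) =
      Localization.mk s.1 ⟨1, one_notMem _⟩ := rfl
  rw [h2, h1]
  have h3 : (Localization.mk (f s.1) ⟨f 1, one_notMem (ProjectiveSpectrum.comap f hf y.1)⟩ : Loc ℬ y.1) = 0 := by
    rw [hs]
    exact Localization.mk_zero _
  rw [h3, zero_mul]

/-- The short complex `O(m) → O(m') → g_* O(m')`. -/
noncomputable def seq {i : ℕ} (s : 𝒜 i) (hs : f s.1 = 0) {m m' : ℤ} (h : m + i = m') :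
    ShortComplex (Proj 𝒜).Modules :=
  ShortComplex.mk (mulMap (𝒜 := 𝒜) s h) (pushHom f hf m') (mulMap_pushHom f hf s hs h)

theorem mk_eq_zero {A : Type u} [CommRing A] [IsDomain A] (P : Ideal A) [P.IsPrime] (a : A) (d : P.primeCompl)
    (h : (Localization.mk a d : Localization.AtPrime P) = 0) : a = 0 := by
  rw [Localization.mk_eq_mk', IsLocalization.mk'_eq_zero_iff] at h
  obtain ⟨c, hc⟩ := h
  rcases mul_eq_zero.mp hc with h | h
  · exact absurd (h ▸ P.zero_mem) c.2
  · exact h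

omit [IsDomain A] [IsDomain B] in
theorem epi_pushHom (hsurj : DegSurj f) (m' : ℤ) : Epi (pushHom f hf m') := by
  have hcl : IsClosedImmersion (Proj.map f hf) := isClosedImmersion_map hf hsurj
  refine epi_of_locally_surjective _ fun U t x hx => ?_
  by_cases hxr : x ∈ Set.range (Proj.map f hf)
  · obtain ⟨y, rfl⟩ := hxr
    have ht := t.2 ⟨y, hx⟩
    obtain ⟨W, hyW, iW, i, j, b, d, nin, hk, w⟩ := ht
    obtain ⟨V, hV⟩ : ∃ V : (Proj 𝒜).Opens, (Proj.map f hf) ⁻¹ᵁ V = W := by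
      obtain ⟨V, hVo, hV⟩ := (Proj.map f hf).isEmbedding.isOpen_iff.mp W.2
      exact ⟨⟨V, hVo⟩, TopologicalSpace.Opens.ext hV⟩
    obtain ⟨a, ha, hab⟩ := hsurj i b.1 b.2
    obtain ⟨c, hc, hcd⟩ := hsurj j d.1 d.2
    have hyV : (Proj.map f hf) y ∈ V := by
      have : y ∈ (Proj.map f hf) ⁻¹ᵁ V := by rw [hV]; exact hyW
      exact this
    have hcy : c ∉ (ProjectiveSpectrum.comap f hf y).asHomogeneousIdeal := by
      intro h
      apply nin ⟨y, hyW⟩
      have : f c ∈ y.asHomogeneousIdeal := h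
      rwa [hcd] at this
    let V' : (Proj 𝒜).Opens := U ⊓ V ⊓ Proj.basicOpen 𝒜 c
    have hV'nin : ∀ z ∈ V', c ∉ z.asHomogeneousIdeal := fun z hz => hz.2
    rcases hk with hk | hk
    · refine ⟨V', fun z hz => hz.1.1, ⟨⟨hx, hyV⟩, hcy⟩,
        fracSec m' (⟨a, ha⟩ : 𝒜 i) (⟨c, hc⟩ : 𝒜 j) hk V' hV'nin, ?_⟩
      refine Subtype.ext (funext fun z => Subtype.ext ?_)
      have hzW : z.1 ∈ W := by
        rw [← hV]; exact z.2.1.2
      have h2 := w ⟨z.1, hzW⟩
      have h3 := locMap_mk f hf z.1 a c (hV'nin _ z.2)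
      refine h3.trans ?_
      refine Eq.trans ?_ h2.symm
      have : ∀ (b' d' : B) (hb : f a = b') (hd : f c = d') (hn : f c ∉ z.1.asHomogeneousIdeal)
          (hn' : d' ∉ z.1.asHomogeneousIdeal),
          (Localization.mk (f a) ⟨f c, hn⟩ : Loc ℬ z.1) = Localization.mk b' ⟨d', hn'⟩ := by
        intro b' d' hb hd hn hn'
        subst hb hd
        rfl
      exact this _ _ hab hcd _ _
    · refine ⟨V', fun z hz => hz.1.1, ⟨⟨hx, hyV⟩, hcy⟩, 0, ?_⟩
      refine Subtype.ext (funext fun z => Subtype.ext ?_)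
      have hzW : z.1 ∈ W := by
        rw [← hV]; exact z.2.1.2
      have h2 := w ⟨z.1, hzW⟩
      refine Eq.trans ?_ h2.symm
      have h4 : (Localization.mk b.1 ⟨d.1, nin ⟨z.1, hzW⟩⟩ : Loc ℬ z.1) = 0 := by
        rw [hk]; exact Localization.mk_zero _
      refine Eq.trans ?_ h4.symm
      exact map_zero (locMap f hf z.1)
  · let V : (Proj 𝒜).Opens := U ⊓ ⟨(Set.range (Proj.map f hf))ᶜ, (Proj.map f hf).isClosedEmbedding.isClosed_range.isOpen_compl⟩
    refine ⟨V, inf_le_left, ⟨hx, hxr⟩, 0, ?_⟩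
    refine Subtype.ext (funext fun z => ?_)
    exact absurd ⟨z.1, rfl⟩ z.2.2

omit [IsDomain A] in
theorem exact_seq (hsurj : DegSurj f) {i : ℕ} (s : 𝒜 i) (hs : f s.1 = 0)
    (hker : ∀ (j : ℕ) (a : A), a ∈ 𝒜 j → f a = 0 → a = 0 ∨ ∃ (l : ℕ) (b : 𝒜 l), l + i = j ∧ a = s.1 * b.1)
    {m m' : ℤ} (h : m + i = m') : (seq f hf s hs h).Exact := by
  have hcl : IsClosedImmersion (Proj.map f hf) := isClosedImmersion_map hf hsurj
  refine exact_of_locally_lifts _ fun U t ht x hx => ?_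
  change sectN (𝒜 := 𝒜) m' (op U) at t
  replace ht : pullSect f hf m' U t = 0 := ht
  by_cases hxr : x ∈ Set.range (Proj.map f hf)
  · obtain ⟨y, rfl⟩ := hxr
    obtain ⟨V, hyV, iV, k, j, a, d, nin, hk, w⟩ := t.2 ⟨ProjectiveSpectrum.comap f hf y, hx⟩
    have hfa : f a.1 = 0 := by
      have h1 := congrArg Subtype.val (congrFun (congrArg Subtype.val ht) ⟨y, hx⟩)
      rw [pullSect_val] at h1
      have h2 := w ⟨_, hyV⟩
      have h3 := locMap_mk f hf y a.1 d.1 (nin ⟨_, hyV⟩)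
      have h4 : locMap f hf y (t.1 ⟨ProjectiveSpectrum.comap f hf y, hx⟩).1 =
          Localization.mk (f a.1) ⟨f d.1, nin ⟨_, hyV⟩⟩ := by
        refine Eq.trans ?_ h3
        exact congrArg (locMap f hf y) h2
      rw [h4] at h1
      exact mk_eq_zero y.asHomogeneousIdeal.toIdeal (f a.1) ⟨f d.1, nin ⟨_, hyV⟩⟩ h1
    have hzero : a.1 = 0 → ∃ (V : (Proj 𝒜).Opens) (i : V ≤ U) (_ : (Proj.map f hf) y ∈ V)
        (z : Γ(twist 𝒜 m, V)), (mulMap s h).app V z = (twist 𝒜 m').presheaf.map (homOfLE i).op t := by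
      intro ha0
      refine ⟨V, iV.le, hyV, 0, ?_⟩
      refine Subtype.ext (funext fun z => Subtype.ext ?_)
      have h2 := w z
      refine Eq.trans ?_ h2.symm
      have h4 : (Localization.mk a.1 ⟨d.1, nin z⟩ : Loc 𝒜 z.1) = 0 := by
        rw [ha0]; exact Localization.mk_zero _
      refine Eq.trans ?_ h4.symm
      exact mul_zero _
    rcases hker k a.1 a.2 hfa with ha0 | ⟨l, b, hl, hab⟩
    · exact hzero ha0
    · rcases hk with hk | hk
      · have hlj : (l : ℤ) = j + m := by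
          have : ((l + i : ℕ) : ℤ) = k := by rw [hl]
          push_cast at this
          omega
        refine ⟨V, iV.le, hyV, fracSec m b d hlj V (fun z hz => nin ⟨z, hz⟩), ?_⟩
        refine Subtype.ext (funext fun z => Subtype.ext ?_)
        have h2 := w z
        refine Eq.trans ?_ h2.symm
        change algebraMap A (Loc 𝒜 z.1) s.1 * Localization.mk b.1 ⟨d.1, nin z⟩ = Localization.mk a.1 ⟨d.1, nin z⟩
        rw [← Localization.mk_one_eq_algebraMap, Localization.mk_mul, one_mul, hab]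
      · exact hzero hk
  · -- off the image `s` is invertible
    have hsx : s.1 ∉ (ProjectiveSpectrum.asHomogeneousIdeal (𝒜 := 𝒜) x) := by
      intro hsx
      apply hxr
      rw [mem_range_map_iff hf hsurj x]
      intro a ha
      have ha' : f a = 0 := ha
      classical
      rw [← DirectSum.sum_support_decompose 𝒜 a]
      refine Ideal.sum_mem _ fun j _ => ?_
      have h1 : f (DirectSum.decompose 𝒜 a j : A) = 0 := by
        rw [GradedRingHom.map_directSumDecompose, ha', DirectSum.decompose_zero]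
        rfl
      rcases hker j _ (SetLike.coe_mem _) h1 with h2 | ⟨l, b, -, h2⟩
      · rw [h2]; exact Ideal.zero_mem _
      · rw [h2]; exact Ideal.mul_mem_right _ _ hsx
    let V : (Proj 𝒜).Opens := U ⊓ Proj.basicOpen 𝒜 s.1
    obtain ⟨z, hz⟩ := (mulMap_app_bijective s h V inf_le_right).2 ((twist 𝒜 m').presheaf.map (homOfLE inf_le_left).op t)
    exact ⟨V, inf_le_left, ⟨hx, hsx⟩, z, hz⟩

theorem shortExact_seq (hsurj : DegSurj f) {i : ℕ} (s : 𝒜 i) (hs0 : s.1 ≠ 0) (hs : f s.1 = 0)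
    (hker : ∀ (j : ℕ) (a : A), a ∈ 𝒜 j → f a = 0 → a = 0 ∨ ∃ (l : ℕ) (b : 𝒜 l), l + i = j ∧ a = s.1 * b.1)
    {m m' : ℤ} (h : m + i = m') : (seq f hf s hs h).ShortExact where
  exact := exact_seq f hf hsurj s hs hker h
  mono_f := mono_mulMap s hs0 h
  epi_g := epi_pushHom f hf hsurj m'

end General

end K697.HypSeq
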