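import Groth.Agent.VBPn.K697.HypSeq
import Groth.Agent.VarietyB.RestrSeq
import Groth.Agent.VarietyB.HHPush
import Groth.Agent.Fga.HShift
import Groth.Agent.PerfB.TwistDer

/-!
# The restriction sequence of a hyperplane `P^m ⊂ P^n` (embedded linearly)

`A : k^(n+1) → k^(m+1)` surjective with kernel spanned by `s ≠ 0` (so `m = n - 1`), `i = emb A`.
* `mulLin v h : O(d) ⟶ O(d')` (`d + 1 = d'`) multiplication by the linear form of `v`; additive in `v`;
* `mulE E v h : E ⊗ O(d) ⟶ E ⊗ O(d')`;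
* `restE A hA E = i^* E`; `pullTw : i^* O(d) ≅ O(d)`;
* `shortExact_hyp` : `0 → E(d) → E(d') → i_*((i^* E)(d')) → 0` for `E` with local bases;
* `sub₁, sub₂, sub₃, sub₀` : consequences for the vanishing of cohomology.
-/

set_option autoImplicit false
universe u

open CategoryTheory CategoryTheory.Limits AlgebraicGeometry MvPolynomial

namespace K697.LinSeq

open K697.Lin K697.HypSeq Groth.Agent.VarietyB Groth.Agent.VarietyB.TwistMul
open Groth.Agent.VarietyB.TensCoh (HasBases)

variable {k : Type u} [Field k] {n m : ℕ}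

/-- Multiplication by the linear form attached to `v`. -/
noncomputable def mulLin (v : Fin (n + 1) → k) {d d' : ℤ} (h : d + 1 = d') :
    Twist.twistProjSpace n k d ⟶ Twist.twistProjSpace n k d' :=
  mulMap (𝒜 := CohB1.polyGrading n k) (⟨lf v, lf_mem v⟩ : CohB1.polyGrading n k 1) (by push_cast; exact h)

theorem mulLin_add (v w : Fin (n + 1) → k) {d d' : ℤ} (h : d + 1 = d') :
    mulLin (v + w) h = mulLin v h + mulLin w h := by
  refine Eq.trans ?_ (mulMap_add (𝒜 := CohB1.polyGrading n k) (⟨lf v, lf_mem v⟩ : CohB1.polyGrading n k 1)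
    ⟨lf w, lf_mem w⟩ (by push_cast; exact h))
  exact mulMap_congr _ _ (lf_add v w) _

theorem mulLin_zero {d d' : ℤ} (h : d + 1 = d') :
    mulLin (0 : Fin (n + 1) → k) h = 0 := by
  refine Eq.trans ?_ (mulMap_zero (𝒜 := CohB1.polyGrading n k) (i := 1) (by push_cast; exact h))
  exact mulMap_congr _ _ lf_zero _

theorem mulLin_comm (v w : Fin (n + 1) → k) {d d' d'' : ℤ} (h : d + 1 = d') (h' : d' + 1 = d'') :
    mulLin v h ≫ mulLin w h' = mulLin w h ≫ mulLin v h' :=
  mulMap_comm (𝒜 := CohB1.polyGrading n k) (⟨lf v, lf_mem v⟩ : CohB1.polyGrading n k 1)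
    (⟨lf w, lf_mem w⟩ : CohB1.polyGrading n k 1) (by push_cast; exact h) (by push_cast; exact h')
    (by push_cast; exact h) (by push_cast; exact h')

/-- `E(d)` -/
noncomputable abbrev tw (E : (CohB1.ProjSpace n k).Modules) (d : ℤ) : (CohB1.ProjSpace n k).Modules :=
  CohB1.tensorMod E (Twist.twistProjSpace n k d)

/-- Multiplication by the linear form of `v` on `E(d)`. -/
noncomputable def mulE (E : (CohB1.ProjSpace n k).Modules) (v : Fin (n + 1) → k) {d d' : ℤ} (h : d + 1 = d') :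
    tw E d ⟶ tw E d' :=
  RestrSeq.tensMap E (mulLin v h)

theorem mulE_add (E : (CohB1.ProjSpace n k).Modules) (v w : Fin (n + 1) → k) {d d' : ℤ} (h : d + 1 = d') :
    mulE E (v + w) h = mulE E v h + mulE E w h := by
  unfold mulE
  rw [mulLin_add]
  exact (DCoh.tensorBi.obj E).map_add

/-- The restriction of `E` to the linear subspace. -/
noncomputable abbrev restE (A : (Fin (n + 1) → k) →ₗ[k] (Fin (m + 1) → k)) (hA : Function.Surjective A)
    (E : (CohB1.ProjSpace n k).Modules) : (CohB1.ProjSpace m k).Modules :=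
  (Scheme.Modules.pullback (emb A hA)).obj E

/-- `i^* O(d) ≅ O(d)` -/
noncomputable def pullTw (A : (Fin (n + 1) → k) →ₗ[k] (Fin (m + 1) → k)) (hA : Function.Surjective A) (d : ℤ) :
    restE A hA (Twist.twistProjSpace n k d) ≅ Twist.twistProjSpace m k d :=
  @asIso _ _ _ _ (Groth.Agent.Ega3A.TwistBC.pullHom (gr A)
    (Groth.Agent.Sga5.ProjSurj.irrelevant_le_map (degSurj hA)) d)
    (Groth.Agent.Ega3A.TwistBC.isIso_pullHom (gr A)
      (Groth.Agent.Sga5.ProjSurj.irrelevant_le_map (degSurj hA)) (Groth.Agent.PerfB.TwistDer.coveredByOne n k) d)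

theorem ker_gr {A : (Fin (n + 1) → k) →ₗ[k] (Fin (m + 1) → k)} (hA : Function.Surjective A)
    {s : Fin (n + 1) → k} (hs : LinearMap.ker A = Submodule.span k {s}) (j : ℕ) (a : MvPolynomial (Fin (n + 1)) k)
    (ha : a ∈ CohB1.polyGrading n k j) (h0 : gr A a = 0) :
    a = 0 ∨ ∃ (l : ℕ) (b : CohB1.polyGrading n k l), l + 1 = j ∧ a = lf s * b.1 := by
  obtain ⟨q, hq⟩ := ker_subst hA hs a h0
  have h1 : (DirectSum.decompose (CohB1.polyGrading n k) a j : MvPolynomial (Fin (n + 1)) k) = a :=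
    DirectSum.decompose_of_mem_same _ ha
  by_cases hj : 1 ≤ j
  · right
    refine ⟨j - 1, DirectSum.decompose (CohB1.polyGrading n k) q (j - 1), by omega, ?_⟩
    conv_lhs => rw [← h1, hq]
    exact DirectSum.coe_decompose_mul_of_left_mem_of_le (CohB1.polyGrading n k) (lf_mem s) hj
  · left
    rw [← h1, hq]
    exact DirectSum.coe_decompose_mul_of_left_mem_of_not_le (CohB1.polyGrading n k) (lf_mem s) hj

variable {A : (Fin (n + 1) → k) →ₗ[k] (Fin (m + 1) → k)} (hA : Function.Surjective A)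
    {s : Fin (n + 1) → k}

theorem gr_lf (hs : A s = 0) : gr A (lf s) = 0 := by
  rw [gr_apply, subst_lf, hs, lf_zero]

/-- `0 → O(d) → O(d') → i_* O(d') → 0` -/
noncomputable def linSeq (hs : A s = 0) {d d' : ℤ} (h : d + 1 = d') : ShortComplex (CohB1.ProjSpace n k).Modules :=
  seq (gr A) (Groth.Agent.Sga5.ProjSurj.irrelevant_le_map (degSurj hA))
    (⟨lf s, lf_mem s⟩ : CohB1.polyGrading n k 1) (gr_lf hs) (m := d) (m' := d') (by push_cast; exact h)

theorem shortExact_linSeq (hs : A s = 0) (hs0 : s ≠ 0) (hker : LinearMap.ker A = Submodule.span k {s})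
    {d d' : ℤ} (h : d + 1 = d') : (linSeq hA hs h).ShortExact :=
  shortExact_seq (gr A) (Groth.Agent.Sga5.ProjSurj.irrelevant_le_map (degSurj hA)) (degSurj hA)
    (⟨lf s, lf_mem s⟩ : CohB1.polyGrading n k 1) (lf_ne_zero hs0) (gr_lf hs) (ker_gr hA hker) _


/-- `0 → E(d) → E(d') → i_*((i^*E)(d')) → 0` -/
noncomputable def hypSeq {E : (CohB1.ProjSpace n k).Modules} (hE : HasBases E) (hs : A s = 0) {d d' : ℤ}
    (h : d + 1 = d') : ShortComplex (CohB1.ProjSpace n k).Modules :=
  ShortComplex.mk (X₁ := tw E d) (X₂ := tw E d')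
    (X₃ := (Scheme.Modules.pushforward (emb A hA)).obj (tw (restE A hA E) d'))
    (mulE E s h)
    (RestrSeq.tensMap E (Groth.Agent.Ega3A.TwistBC.pushHom (gr A)
      (Groth.Agent.Sga5.ProjSurj.irrelevant_le_map (degSurj hA)) d') ≫
      (ProjForm.projIso (emb A hA) hE (Twist.twistProjSpace m k d')).hom) (by
    rw [← Category.assoc]
    have h1 := RestrSeq.tensMap_comp_zero E (mulLin s h) (Groth.Agent.Ega3A.TwistBC.pushHom (gr A)
      (Groth.Agent.Sga5.ProjSurj.irrelevant_le_map (degSurj hA)) d')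
      (mulMap_pushHom (gr A) (Groth.Agent.Sga5.ProjSurj.irrelevant_le_map (degSurj hA))
        (⟨lf s, lf_mem s⟩ : CohB1.polyGrading n k 1) (gr_lf hs) (by push_cast; exact h))
    unfold mulE
    rw [h1]
    exact zero_comp)

theorem shortExact_hypSeq {E : (CohB1.ProjSpace n k).Modules} (hE : HasBases E) (hs : A s = 0) (hs0 : s ≠ 0)
    (hker : LinearMap.ker A = Submodule.span k {s}) {d d' : ℤ} (h : d + 1 = d') :
    (hypSeq hA hE hs h).ShortExact := by
  refine ShortComplex.shortExact_of_iso ?_ (ExactLoc.tensor_shortExact hE _ (shortExact_linSeq hA hs hs0 hker h))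
  refine ShortComplex.isoMk (Iso.refl _) (Iso.refl _)
    (ProjForm.projIso (emb A hA) hE (Twist.twistProjSpace m k d')) ?_ ?_
  · exact (Category.id_comp _).trans (Category.comp_id _).symm
  · exact Category.id_comp _

theorem isQCoh_O (n : ℕ) (d : ℤ) : Coh.IsQCoh (Twist.twistProjSpace n k d) :=
  Groth.Agent.Ega2.QCohLocal.isQCoh_of_isInvertible (Groth.Agent.PerfB.TwistDer.isInvertible_tw n k d)

theorem isQCoh_tw {E : (CohB1.ProjSpace n k).Modules} (hE : HasBases E) (d : ℤ) : Coh.IsQCoh (tw E d) :=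
  TensCoh.isQCoh_tensorMod hE (isQCoh_O n d)

theorem hasBases_restE {E : (CohB1.ProjSpace n k).Modules} (hE : HasBases E) : HasBases (restE A hA E) :=
  ProjForm.HasBases.pullback _ hE

/-- Cohomology of the direct image under a closed immersion over `k`. -/
theorem subsingleton_push_iff {i : CohB1.ProjSpace m k ⟶ CohB1.ProjSpace n k} [IsClosedImmersion i]
    (hi : i ≫ CohB1.ProjSpace.toSpec n k = CohB1.ProjSpace.toSpec m k)
    {M : (CohB1.ProjSpace m k).Modules} (hM : Coh.IsQCoh M) (q : ℕ) :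
    Subsingleton (Coh.HH (CohB1.ProjSpace n k) ((Scheme.Modules.pushforward i).obj M) q) ↔
      Subsingleton (Coh.HH (CohB1.ProjSpace m k) M q) := by
  let _ : (CohB1.ProjSpace n k).Over (Spec (CommRingCat.of k)) := ⟨CohB1.ProjSpace.toSpec n k⟩
  let _ : (CohB1.ProjSpace m k).Over (Spec (CommRingCat.of k)) := ⟨CohB1.ProjSpace.toSpec m k⟩
  obtain ⟨e⟩ := HHPush.exists_linearEquiv i k hi M hM q
  exact e.toEquiv.subsingleton_congr


section Coh

variable {E : (CohB1.ProjSpace n k).Modules} (hE : HasBases E) (hs : A s = 0) (hs0 : s ≠ 0)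
    (hker : LinearMap.ker A = Submodule.span k {s}) {d d' : ℤ} (h : d + 1 = d')

include hE in
theorem subsingleton_push_restE (q : ℕ) :
    Subsingleton (Coh.HH (CohB1.ProjSpace n k)
      ((Scheme.Modules.pushforward (emb A hA)).obj (tw (restE A hA E) d')) q) ↔
      Subsingleton (Coh.HH (CohB1.ProjSpace m k) (tw (restE A hA E) d') q) :=
  subsingleton_push_iff (emb_toSpec A hA) (isQCoh_tw (hasBases_restE hA hE) d') q

/-- `H^q(E(d')) = 0` if `H^q(E(d)) = 0` and `H^q(E_H(d')) = 0`. -/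
theorem sub₂ (hE : HasBases E) (hs : A s = 0) (hs0 : s ≠ 0)
    (hker : LinearMap.ker A = Submodule.span k {s}) (h : d + 1 = d') (q : ℕ)
    (h1 : Subsingleton (Coh.HH (CohB1.ProjSpace n k) (tw E d) q))
    (h3 : Subsingleton (Coh.HH (CohB1.ProjSpace m k) (tw (restE A hA E) d') q)) :
    Subsingleton (Coh.HH (CohB1.ProjSpace n k) (tw E d') q) :=
  Groth.Agent.Fga.HShift.subsingleton₂ (shortExact_hypSeq hA hE hs hs0 hker h) q h1
    ((subsingleton_push_restE hA hE q).mpr h3)

/-- `H^q(E_H(d')) = 0` if `H^q(E(d')) = 0` and `H^{q+1}(E(d)) = 0`. -/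
theorem sub₃ (hE : HasBases E) (hs : A s = 0) (hs0 : s ≠ 0)
    (hker : LinearMap.ker A = Submodule.span k {s}) (h : d + 1 = d') (q : ℕ)
    (h2 : Subsingleton (Coh.HH (CohB1.ProjSpace n k) (tw E d') q))
    (h1 : Subsingleton (Coh.HH (CohB1.ProjSpace n k) (tw E d) (q + 1))) :
    Subsingleton (Coh.HH (CohB1.ProjSpace m k) (tw (restE A hA E) d') q) :=
  (subsingleton_push_restE hA hE q).mp
    (Groth.Agent.Fga.HShift.subsingleton₃ (shortExact_hypSeq hA hE hs hs0 hker h) q h2 h1)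

/-- `H^{q+1}(E(d)) = 0` if `H^q(E_H(d')) = 0` and `H^{q+1}(E(d')) = 0`. -/
theorem sub₁ (hE : HasBases E) (hs : A s = 0) (hs0 : s ≠ 0)
    (hker : LinearMap.ker A = Submodule.span k {s}) (h : d + 1 = d') (q : ℕ)
    (h3 : Subsingleton (Coh.HH (CohB1.ProjSpace m k) (tw (restE A hA E) d') q))
    (h2 : Subsingleton (Coh.HH (CohB1.ProjSpace n k) (tw E d') (q + 1))) :
    Subsingleton (Coh.HH (CohB1.ProjSpace n k) (tw E d) (q + 1)) :=
  Groth.Agent.Fga.HShift.subsingleton₁ (shortExact_hypSeq hA hE hs hs0 hker h) q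
    ((subsingleton_push_restE hA hE q).mpr h3) h2

end Coh

end K697.LinSeq
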