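import Groth.Agent.VBPn.K697.LinSeq

/-!
# Pulling back the multiplication by a form
-/

set_option autoImplicit false

universe u

open CategoryTheory CategoryTheory.Limits AlgebraicGeometry TopologicalSpace Opposite Twist

namespace K697.PullMul

open Groth.Agent.VarietyB.TwistMul Groth.Agent.Ega3A.TwistBC K697.Lin K697.LinSeq

section General

variable {R A R' B : Type u} [CommRing R] [CommRing A] [Algebra R A] [CommRing R'] [CommRing B]
  [Algebra R' B] {𝒜 : ℕ → Submodule R A} [GradedAlgebra 𝒜] {ℬ : ℕ → Submodule R' B} [GradedAlgebra ℬ]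
  (f : 𝒜 →+*ᵍ ℬ)
  (hf : HomogeneousIdeal.irrelevant ℬ ≤ (HomogeneousIdeal.irrelevant 𝒜).map f)

/-- The image of a form. -/
def im {i : ℕ} (s : 𝒜 i) : ℬ i := ⟨f s.1, f.map_mem s.2⟩

theorem mulMap_pushHom_nat {i : ℕ} (s : 𝒜 i) {m m' : ℤ} (h : m + i = m') :
    mulMap (𝒜 := 𝒜) s h ≫ pushHom f hf m' =
      pushHom f hf m ≫ (Scheme.Modules.pushforward (Proj.map f hf)).map (mulMap (𝒜 := ℬ) (im f s) h) := by
  refine hom_ext_apply _ _ fun U t => ?_
  refine Subtype.ext (funext fun y => Subtype.ext ?_)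
  change locMap f hf y.1 (algebraMap A (Loc 𝒜 _) s.1 * _) = algebraMap B (Loc ℬ _) (f s.1) * locMap f hf y.1 _
  rw [map_mul]
  congr 1
  rw [← Localization.mk_one_eq_algebraMap]
  refine (locMap_mk f hf y.1 s.1 1 (one_notMem _)).trans ?_
  have h1 : ∀ (b : B) (hb : b = 1) (h : b ∉ y.1.asHomogeneousIdeal),
      (Localization.mk (f s.1) ⟨b, h⟩ : Twist.Loc ℬ y.1) = algebraMap B _ (f s.1) := by
    intro b hb h
    subst hb
    exact Localization.mk_one_eq_algebraMap _
  exact h1 (f 1) (map_one f) _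

theorem pullback_mulMap {i : ℕ} (s : 𝒜 i) {m m' : ℤ} (h : m + i = m') :
    (Scheme.Modules.pullback (Proj.map f hf)).map (mulMap (𝒜 := 𝒜) s h) ≫ pullHom f hf m' =
      pullHom f hf m ≫ mulMap (𝒜 := ℬ) (im f s) h := by
  unfold pullHom
  refine ((Scheme.Modules.pullbackPushforwardAdjunction (Proj.map f hf)).homEquiv_naturality_left_symm _ _).symm.trans ?_
  rw [mulMap_pushHom_nat f hf s h]
  exact (Scheme.Modules.pullbackPushforwardAdjunction (Proj.map f hf)).homEquiv_naturality_right_symm _ _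

end General

variable {k : Type u} [Field k] {n m : ℕ} (A : (Fin (n + 1) → k) →ₗ[k] (Fin (m + 1) → k)) (hA : Function.Surjective A)

theorem restE_mulMap {i : ℕ} (s : CohB1.polyGrading n k i) {d d' : ℤ} (h : d + i = d') :
    (Scheme.Modules.pullback (emb A hA)).map (mulMap (𝒜 := CohB1.polyGrading n k) s h) ≫ (pullTw A hA d').hom =
      (pullTw A hA d).hom ≫ mulMap (𝒜 := CohB1.polyGrading m k) (im (gr A) s) h :=
  pullback_mulMap (gr A) (Groth.Agent.Sga5.ProjSurj.irrelevant_le_map (degSurj hA)) s h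

end K697.PullMul
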