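import Groth.Agent.VBPn.K697.Lift

/-!
# Chains of linear subspaces

* `exists_quot`: the hyperplane projection killing a given vector;
* `exists_factor`, `exists_factor_of`: a surjection factors through hyperplane projections;
* `restComp`: `restE (B ∘ A) E ≅ restE B (restE A E)`; `restOfBij`: descending along a bijection;
* `split_of_linear`: a bundle on `P^n` splitting on a linear `P^m`, `m ≥ 2`, splits.
-/

set_option autoImplicit false
universe u

open CategoryTheory CategoryTheory.Limits AlgebraicGeometry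

namespace K697.Chain

open K697.Lin K697.LinSeq K697.Lift

variable {k : Type u} [Field k] {n m l : ℕ}

section LinearAlgebra

/-- The projection from `s ≠ 0`. -/
theorem exists_quot (s : Fin (n + 1 + 1) → k) (hs : s ≠ 0) :
    ∃ C : (Fin (n + 1 + 1) → k) →ₗ[k] (Fin (n + 1) → k),
      Function.Surjective C ∧ LinearMap.ker C = Submodule.span k {s} := by
  have h1 : Module.finrank k (Submodule.span k {s}) = 1 := finrank_span_singleton hs
  have h2 := Submodule.finrank_quotient_add_finrank (Submodule.span k {s})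
  rw [h1, Module.finrank_fin_fun] at h2
  have h3 : Module.finrank k ((Fin (n + 1 + 1) → k) ⧸ Submodule.span k {s}) = Module.finrank k (Fin (n + 1) → k) := by
    rw [Module.finrank_fin_fun]
    omega
  let e := LinearEquiv.ofFinrankEq _ _ h3
  refine ⟨e.toLinearMap ∘ₗ (Submodule.span k {s}).mkQ, ?_, ?_⟩
  · exact e.surjective.comp (Submodule.mkQ_surjective _)
  · rw [LinearEquiv.ker_comp, Submodule.ker_mkQ]

/-- Factorisation through the projection from `s`. -/
theorem exists_factor_of {C : (Fin (n + 1 + 1) → k) →ₗ[k] (Fin (n + 1) → k)} (hC : Function.Surjective C)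
    {s : Fin (n + 1 + 1) → k} (hker : LinearMap.ker C = Submodule.span k {s})
    (A : (Fin (n + 1 + 1) → k) →ₗ[k] (Fin (m + 1) → k)) (hs : A s = 0) :
    ∃ B : (Fin (n + 1) → k) →ₗ[k] (Fin (m + 1) → k), A = B ∘ₗ C := by
  obtain ⟨σ, hσ⟩ := C.exists_rightInverse_of_surjective (LinearMap.range_eq_top.mpr hC)
  refine ⟨A ∘ₗ σ, LinearMap.ext fun v => ?_⟩
  have h1 : v - σ (C v) ∈ LinearMap.ker C := by
    rw [LinearMap.mem_ker, map_sub, sub_eq_zero]
    exact (congrArg (fun f => f (C v)) hσ).symm
  rw [hker, Submodule.mem_span_singleton] at h1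
  obtain ⟨c, hc⟩ := h1
  have h2 : A v - A (σ (C v)) = 0 := by
    rw [← map_sub, ← hc, map_smul, hs, smul_zero]
  exact sub_eq_zero.mp h2

theorem exists_ker_ne_zero (A : (Fin (n + 1) → k) →ₗ[k] (Fin (m + 1) → k)) (hmn : m < n) :
    ∃ s : Fin (n + 1) → k, s ≠ 0 ∧ A s = 0 := by
  have h1 : LinearMap.ker A ≠ ⊥ := LinearMap.ker_ne_bot_of_finrank_lt (by
    rw [Module.finrank_fin_fun, Module.finrank_fin_fun]; omega)
  obtain ⟨s, hs, hs0⟩ := (Submodule.ne_bot_iff _).mp h1
  exact ⟨s, hs0, hs⟩

/-- A surjection with nontrivial kernel factors through a hyperplane projection. -/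
theorem exists_factor (A : (Fin (n + 1 + 1) → k) →ₗ[k] (Fin (m + 1) → k)) (hA : Function.Surjective A) (hmn : m ≤ n) :
    ∃ (s : Fin (n + 1 + 1) → k) (C : (Fin (n + 1 + 1) → k) →ₗ[k] (Fin (n + 1) → k))
      (B : (Fin (n + 1) → k) →ₗ[k] (Fin (m + 1) → k)), s ≠ 0 ∧ C s = 0 ∧ Function.Surjective C ∧
      LinearMap.ker C = Submodule.span k {s} ∧ Function.Surjective B ∧ A = B ∘ₗ C := by
  obtain ⟨s, hs0, hs⟩ := exists_ker_ne_zero A (by omega)
  obtain ⟨C, hC, hker⟩ := exists_quot s hs0
  obtain ⟨B, hB⟩ := exists_factor_of hC hker A hs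
  refine ⟨s, C, B, hs0, ?_, hC, hker, ?_, hB⟩
  · have : s ∈ LinearMap.ker C := by rw [hker]; exact Submodule.mem_span_singleton_self s
    exact this
  · intro w
    obtain ⟨v, rfl⟩ := hA w
    exact ⟨C v, by rw [hB]; rfl⟩

theorem le_of_surjective (A : (Fin (n + 1) → k) →ₗ[k] (Fin (m + 1) → k)) (hA : Function.Surjective A) : m ≤ n := by
  have h := LinearMap.finrank_le_finrank_of_surjective hA
  rw [Module.finrank_fin_fun, Module.finrank_fin_fun] at h
  omega

end LinearAlgebra

/-- Pullback along equal morphisms. -/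
noncomputable def pullCongr {X Y : Scheme.{u}} {f g : X ⟶ Y} (h : f = g) (E : Y.Modules) :
    (Scheme.Modules.pullback f).obj E ≅ (Scheme.Modules.pullback g).obj E :=
  (Scheme.Modules.pullbackCongr h).app E

/-- Restriction to a composite. -/
noncomputable def restComp (B : (Fin (m + 1) → k) →ₗ[k] (Fin (l + 1) → k)) (hB : Function.Surjective B)
    (A : (Fin (n + 1) → k) →ₗ[k] (Fin (m + 1) → k)) (hA : Function.Surjective A)
    (hBA : Function.Surjective (B ∘ₗ A)) (E : (CohB1.ProjSpace n k).Modules) :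
    restE (B ∘ₗ A) hBA E ≅ restE B hB (restE A hA E) :=
  pullCongr (emb_comp B A hB hA hBA) E ≪≫ ((Scheme.Modules.pullbackComp (emb B hB) (emb A hA)).app E).symm

noncomputable def restCongr {A B : (Fin (n + 1) → k) →ₗ[k] (Fin (m + 1) → k)} (h : A = B)
    (hA : Function.Surjective A) (hB : Function.Surjective B) (E : (CohB1.ProjSpace n k).Modules) :
    restE A hA E ≅ restE B hB E :=
  pullCongr (emb_congr h hA hB) E

noncomputable def restId (E : (CohB1.ProjSpace n k).Modules)
    (h : Function.Surjective (LinearMap.id : (Fin (n + 1) → k) →ₗ[k] (Fin (n + 1) → k))) :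
    restE LinearMap.id h E ≅ E :=
  pullCongr (emb_id h) E ≪≫ (Scheme.Modules.pullbackId _).app E

/-- A square surjection has an inverse. -/
theorem exists_inv (A : (Fin (n + 1) → k) →ₗ[k] (Fin (n + 1) → k)) (hA : Function.Surjective A) :
    ∃ B : (Fin (n + 1) → k) →ₗ[k] (Fin (n + 1) → k), Function.Surjective B ∧ B ∘ₗ A = LinearMap.id ∧
      A ∘ₗ B = LinearMap.id := by
  have hi : Function.Injective A := LinearMap.injective_iff_surjective.mpr hA
  let e := LinearEquiv.ofBijective A ⟨hi, hA⟩
  refine ⟨e.symm.toLinearMap, e.symm.surjective, ?_, ?_⟩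
  · ext v i; simp [e]
  · ext v i; simp [e]

/-- If `i` is a linear automorphism and `i^* E ≅ ⊕ O(a_j)` then `E ≅ ⊕ O(a_j)`. -/
theorem split_of_bij (A : (Fin (n + 1) → k) →ₗ[k] (Fin (n + 1) → k)) (hA : Function.Surjective A)
    {E : (CohB1.ProjSpace n k).Modules} {ι : Type} [Finite ι] (a : ι → ℤ)
    (e : Nonempty (restE A hA E ≅ ∐ fun j => Twist.twistProjSpace n k (a j))) :
    Nonempty (E ≅ ∐ fun j => Twist.twistProjSpace n k (a j)) := by
  obtain ⟨e⟩ := e
  obtain ⟨B, hB, h1, -⟩ := exists_inv A hA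
  have hid : Function.Surjective (LinearMap.id : (Fin (n + 1) → k) →ₗ[k] (Fin (n + 1) → k)) := Function.surjective_id
  have hBA : Function.Surjective (B ∘ₗ A) := hB.comp hA
  exact ⟨(restId E hid).symm ≪≫ restCongr h1.symm hid hBA E ≪≫ restComp B hB A hA hBA E ≪≫
    (Scheme.Modules.pullback (emb B hB)).mapIso e ≪≫ pullSum hB a⟩

/-- A bundle on `P^n` which splits on a linear `P^m`, `m ≥ 2`, splits, with the same degrees. -/
theorem split_of_linear (hm : 2 ≤ m) {ι : Type} [Finite ι] (a : ι → ℤ) :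
    ∀ (n : ℕ) (A : (Fin (n + 1) → k) →ₗ[k] (Fin (m + 1) → k)) (hA : Function.Surjective A)
      (E : (CohB1.ProjSpace n k).Modules), FlatMod.IsFinLocFree E →
      Nonempty (restE A hA E ≅ ∐ fun j => Twist.twistProjSpace m k (a j)) →
      Nonempty (E ≅ ∐ fun j => Twist.twistProjSpace n k (a j)) := by
  intro n
  induction n with
  | zero =>
    intro A hA
    have := le_of_surjective A hA
    omega
  | succ n ih =>
    intro A hA E hE e
    rcases Nat.lt_or_ge n m with h | h
    · have h1 := le_of_surjective A hA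
      obtain rfl : m = n + 1 := by omega
      exact split_of_bij A hA a e
    · obtain ⟨s, C, B, hs0, hs, hC, hker, hB, rfl⟩ := exists_factor A hA h
      obtain ⟨e⟩ := e
      have h2 := ih B hB (restE C hC E) (isFinLocFree_restE hC hE) ⟨(restComp B hB C hC hA E).symm ≪≫ e⟩
      exact split_step hC hs hs0 hker (by omega) (by omega) hE a h2

end K697.Chain
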