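import Groth.Agent.VBPn.K697.LinClass
import Groth.Agent.S3581
import Groth.Agent.S1697
import Groth.Agent.Ega3B.ProjProper
import Groth.Agent.Sga67.LocBasis
import Mathlib.AlgebraicGeometry.AlgClosed.Basic

/-!
# Closed points of `P^n` over an algebraically closed field are linear subspaces; bundles on `P^0`
-/

set_option autoImplicit false
universe u

open CategoryTheory CategoryTheory.Limits AlgebraicGeometry MvPolynomial

namespace K697.Point

open K697.Lin K697.LinSeq Groth.Agent.VarietyB.TwistMul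

variable {k : Type u} [Field k] {n : ℕ}

theorem X_notMem (x : ProjectiveSpectrum (CohB1.polyGrading 0 k)) : (X 0 : MvPolynomial (Fin 1) k) ∉ x.asHomogeneousIdeal := by
  have h0 : x ∈ ⨆ i, Groth.Agent.CurvesC.ProjSpaceBasic.Dp 0 k i := by
    rw [Groth.Agent.CurvesC.ProjSpaceBasic.iSup_Dp]
    trivial
  obtain ⟨i, hi⟩ := TopologicalSpace.Opens.mem_iSup.1 h0
  have : i = 0 := Fin.ext (by omega)
  subst this
  exact hi

/-- On `P^0` all twists are isomorphic. -/
theorem nonempty_twist_iso_add (d : ℤ) (e : ℕ) :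
    Nonempty (Twist.twistProjSpace 0 k d ≅ Twist.twistProjSpace 0 k (d + e)) := by
  let a : CohB1.polyGrading 0 k e := ⟨(X 0) ^ e, isHomogeneous_X_pow 0 e⟩
  have hU : ∀ U : (Proj (CohB1.polyGrading 0 k)).Opens, U ≤ Proj.basicOpen (CohB1.polyGrading 0 k) a.1 :=
    fun U x _ h => X_notMem x (x.isPrime.mem_of_pow_mem e h)
  have h1 : IsIso (mulMap (𝒜 := CohB1.polyGrading 0 k) a (rfl : d + (e : ℤ) = d + e)) := by
    rw [Scheme.Modules.Hom.isIso_iff_isIso_app]
    exact fun U => isIso_mulMap_app a _ U (hU U)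
  exact ⟨@asIso _ _ _ _ (mulMap (𝒜 := CohB1.polyGrading 0 k) a (rfl : d + (e : ℤ) = d + e)) h1⟩

theorem nonempty_twist_iso (a b : ℤ) :
    Nonempty (Twist.twistProjSpace 0 k a ≅ Twist.twistProjSpace 0 k b) := by
  rcases le_total a b with h | h
  · obtain ⟨e⟩ := nonempty_twist_iso_add (k := k) a (b - a).toNat
    have : a + ((b - a).toNat : ℤ) = b := by omega
    rw [this] at e
    exact ⟨e⟩
  · obtain ⟨e⟩ := nonempty_twist_iso_add (k := k) b (a - b).toNat
    have : b + ((a - b).toNat : ℤ) = a := by omega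
    rw [this] at e
    exact ⟨e.symm⟩

/-- A closed point of `P^n` over an algebraically closed field is the image of a linear `P^0`. -/
theorem exists_point [IsAlgClosed k] (x : CohB1.ProjSpace n k) (hx : IsClosed ({x} : Set (CohB1.ProjSpace n k))) :
    ∃ (B : (Fin (n + 1) → k) →ₗ[k] (Fin (0 + 1) → k)) (hB : Function.Surjective B),
      ∀ y : CohB1.ProjSpace 0 k, emb B hB y = x := by
  have hp : IsProper (CohB1.ProjSpace.toSpec n k) := Groth.Agent.Ega3B.ProjProper.isProper_toSpec n k
  let p := pointOfClosedPoint (CohB1.ProjSpace.toSpec n k) x hx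
  let i : CohB1.ProjSpace 0 k ⟶ CohB1.ProjSpace n k := CohB1.ProjSpace.toSpec 0 k ≫ p
  have hi : i ≫ CohB1.ProjSpace.toSpec n k = CohB1.ProjSpace.toSpec 0 k := by
    rw [Category.assoc, pointOfClosedPoint_comp, Category.comp_id]
  have hO : Nonempty ((Scheme.Modules.pullback i).obj (Twist.twistProjSpace n k 1) ≅ Twist.twistProjSpace 0 k 1) := by
    obtain ⟨d, ⟨e⟩⟩ := Groth.Agent.S1697.result k 0 ((Scheme.Modules.pullback i).obj (Twist.twistProjSpace n k 1))
      (Groth.Agent.Ega2.H296.PnGen.isInvertible_pullback_twist i)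
    obtain ⟨e'⟩ := nonempty_twist_iso (k := k) d 1
    exact ⟨e ≪≫ e'⟩
  obtain ⟨B, hB, h⟩ := K697.LinClass.exists_emb i hi hO
  refine ⟨B, hB, fun y => ?_⟩
  rw [← h]
  exact pointOfClosedPoint_apply (CohB1.ProjSpace.toSpec n k) x hx _

theorem subsingleton_P0 (k : Type u) [Field k] : Subsingleton (CohB1.ProjSpace 0 k) := by
  have h : IsIso (CohB1.ProjSpace.toSpec 0 k) := Groth.Agent.S3581.result k
  have h1 : Function.Injective (CohB1.ProjSpace.toSpec 0 k) := (CohB1.ProjSpace.toSpec 0 k).injective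
  have h2 : Subsingleton (Spec (CommRingCat.of k)) := inferInstanceAs (Subsingleton (PrimeSpectrum k))
  exact h1.subsingleton

/-- Vector bundles on `P^0` are free. -/
theorem free_P0 {r : ℕ} {E : (CohB1.ProjSpace 0 k).Modules} (hE : FlatMod.IsFinLocFreeOfRank r E) :
    Nonempty (E ≅ FlatMod.freeMod (CohB1.ProjSpace 0 k) r) := by
  have h0 := subsingleton_P0 k
  let y : CohB1.ProjSpace 0 k := Groth.Agent.Sga5.ProjConn.genPt 0 k
  obtain ⟨U, hy, e, he⟩ := Groth.Agent.VarietyB.TensLoc.exists_isBasis hE y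
  obtain rfl : U = ⊤ := by
    ext z
    simp only [TopologicalSpace.Opens.coe_top, Set.mem_univ, iff_true]
    rw [Subsingleton.elim z y]
    exact hy
  refine Groth.Agent.Sga67.LocBasis.nonempty_iso_free (b := e) fun V h => ?_
  have h1 := he V h
  have h2 : (Groth.Agent.Sga67.LocBasis.comb (M := E) e h : (Fin r → Γ(CohB1.ProjSpace 0 k, V)) → _) =
      fun a => ∑ i, a i • Groth.Agent.VarietyB.TensLoc.res E h (e i) := by
    funext a
    exact Groth.Agent.Sga67.LocBasis.comb_apply _ _ _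
  rw [h2]
  exact h1

end K697.Point
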