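import Groth.Agent.VBPn.K697.Pencil
import Groth.Agent.VBPn.K697.Point

/-!
# Bundles trivial on the lines through a point
-/

set_option autoImplicit false
universe u

open CategoryTheory CategoryTheory.Limits AlgebraicGeometry

namespace K697.Triv

open K697.Lin K697.LinSeq K697.Lift K697.Chain K697.NegVan K697.IsoCrit K697.Pencil K697.H0Neg

variable {k : Type u} [Field k]

theorem mem_of_ker {n m : ℕ} {C : (Fin (n + 1) → k) →ₗ[k] (Fin (m + 1) → k)} {s : Fin (n + 1) → k}
    (hker : LinearMap.ker C = Submodule.span k {s}) : C s = 0 := by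
  have : s ∈ LinearMap.ker C := by rw [hker]; exact Submodule.mem_span_singleton_self s
  exact this

theorem plane [IsAlgClosed k] (r : ℕ) (B : (Fin (1 + 1 + 1) → k) →ₗ[k] (Fin (0 + 1) → k))
    (E : (CohB1.ProjSpace (1 + 1) k).Modules) (hE : FlatMod.IsFinLocFree E)
    (H : ∀ (A : (Fin (1 + 1 + 1) → k) →ₗ[k] (Fin (1 + 1) → k)) (hA : Function.Surjective A)
      (B' : (Fin (1 + 1) → k) →ₗ[k] (Fin (0 + 1) → k)), B = B' ∘ₗ A →
      Nonempty (restE A hA E ≅ ∐ fun _ : Fin r => Twist.twistProjSpace 1 k 0)) :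
    Nonempty (E ≅ ∐ fun _ : Fin r => Twist.twistProjSpace (1 + 1) k 0) := by
  -- two independent vectors in the kernel of `B`
  have hdim : 1 < Module.finrank k (LinearMap.ker B) := by
    have h1 := LinearMap.finrank_range_add_finrank_ker B
    have h2 : Module.finrank k (LinearMap.range B) ≤ 1 := by
      refine (Submodule.finrank_le _).trans ?_
      rw [Module.finrank_fin_fun]
    rw [Module.finrank_fin_fun] at h1
    omega
  have : Nontrivial (LinearMap.ker B) := Module.nontrivial_of_finrank_pos (by omega : 0 < Module.finrank k (LinearMap.ker B))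
  obtain ⟨x, hx⟩ := exists_ne (0 : LinearMap.ker B)
  obtain ⟨y, hxy⟩ := exists_linearIndependent_pair_of_one_lt_finrank hdim hx
  rw [LinearIndependent.pair_iff] at hxy
  have hline : ∀ (s : Fin (1 + 1 + 1) → k), B s = 0 → ∀ (C : (Fin (1 + 1 + 1) → k) →ₗ[k] (Fin (1 + 1) → k))
      (hC : Function.Surjective C), LinearMap.ker C = Submodule.span k {s} →
      Nonempty (restE C hC E ≅ ∐ fun _ : Fin r => Twist.twistProjSpace 1 k 0) := by
    intro s hs C hC hker
    obtain ⟨B', hB'⟩ := exists_factor_of hC hker B hs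
    exact H C hC B' hB'
  have h1 : Subsingleton (Coh.HH (CohB1.ProjSpace (1 + 1) k) (tw E (-1)) (0 + 1)) := by
    refine pencil hE x.1 y.1 (fun a b hab => ?_) (by norm_num : (-2 : ℤ) + 1 = -1) 0 ?_
    · exact hxy a b (Subtype.ext hab)
    · intro a b hab C hC hker
      have hs : B (a • x.1 + b • y.1) = 0 := by
        rw [map_add, map_smul, map_smul]
        have e1 : B x.1 = 0 := x.2
        have e2 : B y.1 = 0 := y.2
        rw [e1, e2, smul_zero, smul_zero, add_zero]
      obtain ⟨e⟩ := hline _ hs C hC hker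
      constructor
      · exact Groth.Agent.Fga.HShift.subsingleton_of_iso (twIso e (-1)).symm 0 (subsingleton_HH_sum _ (-1) 0 fun j =>
          Groth.Agent.S0844.result k 1 (0 + -1) 0 (by omega) (by omega))
      · exact Groth.Agent.Fga.HShift.subsingleton_of_iso (twIso e (-1)).symm 1 (subsingleton_HH_sum _ (-1) 1 fun j =>
          Groth.Agent.S0844.result k 1 (0 + -1) 1 (by omega) (by omega))
  have hx0 : x.1 ≠ 0 := fun h => hx (Subtype.ext h)
  obtain ⟨C, hC, hker⟩ := exists_quot x.1 hx0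
  obtain ⟨e⟩ := hline x.1 x.2 C hC hker
  obtain ⟨φ, hφ⟩ := exists_lift_restrict hC (hasBases hE) (mem_of_ker hker) hx0 hker (fun _ : Fin r => (0 : ℤ))
    (fun i => h1) ((pullSum hC (fun _ : Fin r => (0 : ℤ))).hom ≫ e.inv)
  have i1 : IsIso ((Scheme.Modules.pullback (emb C hC)).map φ) := by
    rw [hφ]; infer_instance
  have i2 := isIso_of_restrict hC (by norm_num) (isFinLocFree_sum _) hE φ (mem_of_ker hker) hx0 hker
  exact ⟨(asIso φ).symm⟩

theorem main [IsAlgClosed k] (r : ℕ) : ∀ (n : ℕ) (B : (Fin (n + 1 + 1) → k) →ₗ[k] (Fin (0 + 1) → k))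
    (E : (CohB1.ProjSpace (n + 1) k).Modules), FlatMod.IsFinLocFree E →
    (∀ (A : (Fin (n + 1 + 1) → k) →ₗ[k] (Fin (1 + 1) → k)) (hA : Function.Surjective A)
      (B' : (Fin (1 + 1) → k) →ₗ[k] (Fin (0 + 1) → k)), B = B' ∘ₗ A →
      Nonempty (restE A hA E ≅ ∐ fun _ : Fin r => Twist.twistProjSpace 1 k 0)) →
    Nonempty (E ≅ ∐ fun _ : Fin r => Twist.twistProjSpace (n + 1) k 0) := by
  intro n
  induction n with
  | zero =>
    intro B E hE H
    obtain ⟨e⟩ := H LinearMap.id Function.surjective_id B rfl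
    exact ⟨(restId E Function.surjective_id).symm ≪≫ e⟩
  | succ n ih =>
    intro B E hE H
    rcases Nat.eq_zero_or_pos n with rfl | hn
    · exact plane r B E hE H
    · obtain ⟨s, hs0, hs⟩ := exists_ker_ne_zero B (by omega)
      obtain ⟨C, hC, hker⟩ := exists_quot s hs0
      obtain ⟨B₁, rfl⟩ := exists_factor_of hC hker B hs
      refine split_step hC (mem_of_ker hker) hs0 hker (by omega) (by omega) hE _
        (ih B₁ (restE C hC E) (isFinLocFree_restE hC hE) fun A hA B' hB' => ?_)
      obtain ⟨e⟩ := H (A ∘ₗ C) (hA.comp hC) B' (by rw [hB', LinearMap.comp_assoc])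
      exact ⟨(restComp A hA C hC (hA.comp hC) E).symm ≪≫ e⟩

end K697.Triv
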