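import Groth.Agent.VBPn.K697.Blk
import Groth.Agent.Krr.H495.Rank
import Groth.Agent.Krr.H450.ConormalIso
import Groth.Agent.Krr.H496.PullK0
import Groth.Agent.Sga67.CohBasic
import Groth.Agent.PerfA.CohSerre
import Groth.Agent.Divis.StalkMod
import Groth.Agent.Ega2.QCohLocal
import Groth.Agent.Sga5.ProjConn
import Groth.Agent.Sga5.ProjReg
import Mathlib.Algebra.Category.ModuleCat.Biproducts

/-!
# Rank two bundles on the plane with prescribed jumping lines
-/

set_option autoImplicit false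

universe u

open CategoryTheory CategoryTheory.Limits AlgebraicGeometry MvPolynomial

namespace K697.Jump

open K697.Lin K697.LinSeq K697.PtLine K697.KosPn K697.PullMul K697.Tri K697.Blk
open Groth.Agent.Dcoh.StalkMod

variable {k : Type u} [Field k]

theorem isFinLocFree_O (n : ℕ) (d : ℤ) : FlatMod.IsFinLocFreeOfRank 1 (Twist.twistProjSpace n k d) :=
  Groth.Agent.Ega2.QCohLocal.isFinLocFreeOfRank_one_iff.mpr
    (Groth.Agent.Ega2.TwistInv.isInvertible_twist (Groth.Agent.PerfB.TwistDer.coveredByOne n k) d)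

/-- The standard triple of a form of degree `a` on the projective line. -/
noncomputable abbrev stdT {a : ℕ} (f : CohB1.polyGrading 1 k a) : Tri (Twist.twistProjSpace 1 k 0) :=
  std (B := Twist.twistProjSpace 1 k (a : ℤ)) (B' := Twist.twistProjSpace 1 k (-(a : ℤ)))
    (mf f (by simp)) (mf f (by simp))

/-- The product of forms. -/
noncomputable def mulF {a b : ℕ} (f : CohB1.polyGrading 1 k a) (h : CohB1.polyGrading 1 k b) :
    CohB1.polyGrading 1 k (a + b) := ⟨f.1 * h.1, SetLike.mul_mem_graded f.2 h.2⟩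

theorem stdT_sum {a : ℕ} (f : CohB1.polyGrading 1 k a) (h : CohB1.polyGrading 1 k 1)
    (hfh : ∀ x : CohB1.ProjSpace 1 k, f.1 ∉ idl x ∨ h.1 ∉ idl x) :
    Nonempty (IsSum (stdT f) (std (B := Twist.twistProjSpace 1 k 1) (B' := Twist.twistProjSpace 1 k (-1))
      (mf h (by norm_num)) (mf h (by norm_num))) (stdT (mulF f h))) := by
  have h1 := std_sum (O := Twist.twistProjSpace 1 k 0) (Y := Twist.twistProjSpace 1 k ((a + 1 : ℕ) : ℤ))
    (A := Twist.twistProjSpace 1 k (-((a + 1 : ℕ) : ℤ)))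
    (isKos_mf f h (m := 0) (m₁ := (a : ℤ)) (m₂ := 1) (m' := ((a + 1 : ℕ) : ℤ)) (by simp) (by push_cast; ring)
      (by norm_num) (by push_cast; ring) hfh)
    (isKos_mf h f (m := -((a + 1 : ℕ) : ℤ)) (m₁ := -(a : ℤ)) (m₂ := -1) (m' := 0) (by push_cast; ring)
      (by simp) (by push_cast; ring) (by norm_num) (fun x => (hfh x).symm))
  have e1 : mf f (show (0 : ℤ) + (a : ℕ) = a by simp) ≫ mf h (show (a : ℤ) + (1 : ℕ) = ((a + 1 : ℕ) : ℤ) by push_cast; ring) =
      mf (mulF f h) (by simp) := mf_comp _ _ _ rfl _ _ _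
  have e2 : mf h (show -((a + 1 : ℕ) : ℤ) + (1 : ℕ) = -(a : ℤ) by push_cast; ring) ≫ mf f (show -(a : ℤ) + (a : ℕ) = 0 by simp) =
      mf (mulF f h) (by simp) := mf_comp _ _ _ (mul_comm _ _) _ _ _
  rw [e1, e2] at h1
  exact h1

/-- The triple is isomorphic to a standard one of degree `a`. -/
def IsStd (T : Tri (Twist.twistProjSpace 1 k 0)) (a : ℕ) (Z : CohB1.ProjSpace 1 k → Prop) : Prop :=
  ∃ f : CohB1.polyGrading 1 k a, (∀ z, f.1 ∈ idl z → Z z) ∧ Tri.Equiv T (stdT f)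

section Epi

variable {C : Type*} [Category C] [Abelian C] {D : Type*} [Category D] [Abelian D] (F : C ⥤ D) [F.Additive]
variable {O : C} {T₁ T₂ : Tri O}

theorem epi_p_of_isSplit {T : Tri O} (h : IsSplit (T.map F (Iso.refl _))) : Epi (F.map T.p) := by
  obtain ⟨σ, ρ, h1, h2, h3⟩ := h
  have h4 : σ ≫ F.map T.p = 𝟙 _ := by
    refine Eq.trans ?_ h2
    exact congrArg (σ ≫ ·) (Category.comp_id _).symm
  exact (IsSplitEpi.mk' ⟨σ, h4⟩).epi

theorem mono_s_of_isSplit {T : Tri O} (h : IsSplit (T.map F (Iso.refl _))) : Mono (F.map T.s) := by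
  obtain ⟨σ, ρ, h1, h2, h3⟩ := h
  have h4 : F.map T.s ≫ ρ = 𝟙 _ := by
    refine Eq.trans ?_ h1
    exact congrArg (· ≫ ρ) (Category.id_comp _).symm
  exact (IsSplitMono.mk' ⟨ρ, h4⟩).mono

theorem epi_left (h : Epi (F.map T₁.p)) : Epi (F.map (biprod.desc T₁.p (-T₂.p))) := by
  have h1 : F.map biprod.inl ≫ F.map (biprod.desc T₁.p (-T₂.p)) = F.map T₁.p := by
    rw [← F.map_comp, biprod.inl_desc]
  rw [← h1] at h
  exact @epi_of_epi _ _ _ _ _ _ _ h

theorem epi_right (h : Epi (F.map T₂.p)) : Epi (F.map (biprod.desc T₁.p (-T₂.p))) := by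
  have h1 : (-F.map biprod.inr) ≫ F.map (biprod.desc T₁.p (-T₂.p)) = F.map T₂.p := by
    rw [Preadditive.neg_comp, ← F.map_comp, biprod.inr_desc, F.map_neg, neg_neg]
  rw [← h1] at h
  exact @epi_of_epi _ _ _ _ _ _ _ h

theorem mono_left (h : Mono (F.map T₁.s)) : Mono (F.map (biprod.lift T₁.s (-T₂.s))) := by
  have h1 : F.map (biprod.lift T₁.s (-T₂.s)) ≫ F.map biprod.fst = F.map T₁.s := by
    rw [← F.map_comp, biprod.lift_fst]
  rw [← h1] at h
  exact @mono_of_mono _ _ _ _ _ _ _ h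

theorem mono_right (h : Mono (F.map T₂.s)) : Mono (F.map (biprod.lift T₁.s (-T₂.s))) := by
  have h1 : F.map (biprod.lift T₁.s (-T₂.s)) ≫ (-F.map biprod.snd) = F.map T₂.s := by
    rw [Preadditive.comp_neg, ← F.map_comp, biprod.lift_snd, F.map_neg, neg_neg]
  rw [← h1] at h
  exact @mono_of_mono _ _ _ _ _ _ _ h

theorem iso_of_isSplit {T : Tri O} (h : IsSplit T) : Nonempty (T.E ≅ O ⊞ O) := by
  obtain ⟨σ, ρ, h1, h2, h3⟩ := h
  have h4 : σ ≫ ρ = 0 := by
    have h4 : σ ≫ (ρ ≫ T.s + T.p ≫ σ) = σ := by rw [h3, Category.comp_id]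
    rw [Preadditive.comp_add, ← Category.assoc σ T.p, h2, Category.id_comp, add_eq_right] at h4
    have h5 : (σ ≫ ρ ≫ T.s) ≫ ρ = 0 := by rw [h4, zero_comp]
    rwa [Category.assoc, Category.assoc, h1, Category.comp_id] at h5
  refine ⟨⟨biprod.lift ρ T.p, biprod.desc T.s σ, ?_, ?_⟩⟩
  · rw [biprod.lift_desc, h3]
  · apply biprod.hom_ext'
    · apply biprod.hom_ext
      · simp [h1]
      · simp [T.w]
    · apply biprod.hom_ext
      · simp [h4]
      · simp [h2]

theorem isSplit_std {B B' : C} (f : O ⟶ B) (f' : B' ⟶ O) [IsIso f] [IsIso f'] : IsSplit (std f f') := by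
  refine ⟨inv f' ≫ biprod.inr, biprod.fst ≫ inv f, ?_, ?_, ?_⟩
  · simp
  · simp
  · apply biprod.hom_ext'
    · apply biprod.hom_ext <;> simp
    · apply biprod.hom_ext <;> simp

end Epi

/-- Coherent with stalks free of rank two. -/
theorem isFinLocFreeOfRank_two {n : ℕ} {E : (CohB1.ProjSpace n k).Modules} (hE : Coh.IsCoh E)
    (h : ∀ y : CohB1.ProjSpace n k, Nonempty ((stalkMod y).obj E ≅ (stalkMod y).obj (Twist.twistProjSpace n k 0) ⊞
      (stalkMod y).obj (Twist.twistProjSpace n k 0))) : FlatMod.IsFinLocFreeOfRank 2 E := by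
  have hb : ∀ y : CohB1.ProjSpace n k, Nonempty (Module.Basis (Fin 1 ⊕ Fin 1)
      ((CohB1.ProjSpace n k).presheaf.stalk y) (E.presheaf.stalk y)) := by
    intro y
    obtain ⟨e⟩ := h y
    obtain ⟨b⟩ := Groth.Agent.Krr.H450.ConormalIso.exists_basis_stalk (isFinLocFree_O (k := k) n 0) y
    let e' := (e ≪≫ ModuleCat.biprodIsoProd _ _).toLinearEquiv
    exact ⟨(b.prod b).map e'.symm⟩
  have hlf : FlatMod.IsFinLocFree E := Groth.Agent.Divis.StalkMod.isFinLocFree_of_free_stalk hE fun y => by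
    obtain ⟨b⟩ := hb y
    exact Module.Free.of_basis b
  rw [Groth.Agent.Krr.H495.Rank.isFinLocFreeOfRank_iff]
  refine ⟨hlf, fun y => ?_⟩
  have h1 := Groth.Agent.Krr.H495.Rank.isFinLocFreeOfRank_of_connected hlf y
  obtain ⟨b⟩ := Groth.Agent.Krr.H450.ConormalIso.exists_basis_stalk h1 y
  obtain ⟨b'⟩ := hb y
  have := Fintype.card_congr (Module.Basis.indexEquiv b b')
  simpa using this

open scoped Classical in
/-- The number of points on the line. -/
noncomputable def cnt {ι : Type} (J : Finset ι) (x : ι → CohB1.ProjSpace 2 k) (A : (Fin (2 + 1) → k) →ₗ[k] (Fin (1 + 1) → k))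
    (hA : Function.Surjective A) : ℕ := (J.filter fun j => x j ∈ Set.range (emb A hA)).card

/-- The properties of the triple built from the points `x j`, `j ∈ J`. -/
structure IsGood {ι : Type} (J : Finset ι) (x : ι → CohB1.ProjSpace 2 k) (T : Tri (Twist.twistProjSpace 2 k 0)) : Prop where
  coh : Coh.IsCoh T.E
  rk : ∀ y : CohB1.ProjSpace 2 k, Nonempty ((stalkMod y).obj T.E ≅ (stalkMod y).obj (Twist.twistProjSpace 2 k 0) ⊞
      (stalkMod y).obj (Twist.twistProjSpace 2 k 0))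
  split : ∀ y : CohB1.ProjSpace 2 k, (∀ j ∈ J, x j ≠ y) → IsSplit (T.map (stalkMod y) (Iso.refl _))
  line : ∀ (A : (Fin (2 + 1) → k) →ₗ[k] (Fin (1 + 1) → k)) (hA : Function.Surjective A),
    IsStd (T.map (Scheme.Modules.pullback (emb A hA)) (pullTw A hA 0)) (cnt J x A hA)
      (fun z => ∃ j ∈ J, emb A hA z = x j)

theorem isCoh_O (n : ℕ) (d : ℤ) : Coh.IsCoh (Twist.twistProjSpace n k d) :=
  Groth.Agent.PerfA.CohSerre.isCoh_of_isFinLocFree
    (Groth.Agent.Krr.H495.Rank.isFinLocFree_of_rank (isFinLocFree_O n d))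

theorem good_empty {ι : Type} (x : ι → CohB1.ProjSpace 2 k) :
    ∃ T : Tri (Twist.twistProjSpace 2 k 0), IsGood ∅ x T := by
  let T : Tri (Twist.twistProjSpace 2 k 0) := std (B := Twist.twistProjSpace 2 k 0) (B' := Twist.twistProjSpace 2 k 0)
    (𝟙 _) (𝟙 _)
  have hT : IsSplit T := isSplit_std _ _
  refine ⟨T, ?_, fun y => ?_, fun y _ => hT.map _ _, fun A hA => ?_⟩
  · exact Groth.Agent.Sga67.CohBasic.isCoh_biprod (isCoh_O 2 0) (isCoh_O 2 0)
  · exact iso_of_isSplit (hT.map (stalkMod y) (Iso.refl _))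
  · have hc : cnt ∅ x A hA = 0 := by simp [cnt]
    rw [hc]
    refine ⟨cform 1 1, fun z hz => ?_, ?_⟩
    · exact absurd hz (one_notMem_idl z)
    · have i1 : IsIso (mf (cform 1 (1 : k)) (show (0 : ℤ) + (0 : ℕ) = ((0 : ℕ) : ℤ) by simp)) := by
        have : mf (cform 1 (1 : k)) (show (0 : ℤ) + (0 : ℕ) = 0 by simp) = 𝟙 _ := mf_one _ C_1 _
        change IsIso (mf (cform 1 (1 : k)) (show (0 : ℤ) + (0 : ℕ) = 0 by simp))
        rw [this]
        infer_instance
      have i2 : IsIso (mf (cform 1 (1 : k)) (show -((0 : ℕ) : ℤ) + (0 : ℕ) = 0 by simp)) := by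
        have : mf (cform 1 (1 : k)) (show (0 : ℤ) + (0 : ℕ) = 0 by simp) = 𝟙 _ := mf_one _ C_1 _
        change IsIso (mf (cform 1 (1 : k)) (show (0 : ℤ) + (0 : ℕ) = 0 by simp))
        rw [this]
        infer_instance
      exact equiv_of_isSplit (hT.map _ _) (isSplit_std _ _)

theorem good_step [IsAlgClosed k] {ι : Type} [DecidableEq ι] (J : Finset ι) (x : ι → CohB1.ProjSpace 2 k) (j₀ : ι)
    (hj₀ : j₀ ∉ J) (hne : ∀ j ∈ J, x j ≠ x j₀) (hcl : IsClosed ({x j₀} : Set (CohB1.ProjSpace 2 k)))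
    {T₁ : Tri (Twist.twistProjSpace 2 k 0)} (h₁ : IsGood J x T₁) :
    ∃ T : Tri (Twist.twistProjSpace 2 k 0), IsGood (insert j₀ J) x T := by
  obtain ⟨u, v, w, hu, hv, hw, huv, hli⟩ := exists_frame (x j₀) hcl
  obtain ⟨T₂, ⟨B⟩⟩ := exists_isBlk w u v
  have hsp₂ : ∀ y : CohB1.ProjSpace 2 k, y ≠ x j₀ → IsSplit (T₂.map (stalkMod y) (Iso.refl _)) := fun y hy => by
    refine isSplit_stalk B y ?_
    by_contra hcon
    rw [not_or, not_not, not_not] at hcon
    exact hy (huv y hcon.1 hcon.2)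
  have hepi : Epi (biprod.desc T₁.p (-T₂.p)) := by
    refine epi_of_stalks _ fun y => ?_
    by_cases hy : y = x j₀
    · exact epi_left _ (epi_p_of_isSplit _ (h₁.split y fun j hj => by rw [hy]; exact hne j hj))
    · exact epi_right _ (epi_p_of_isSplit _ (hsp₂ y hy))
  have hmono : Mono (biprod.lift T₁.s (-T₂.s)) := by
    refine mono_of_stalks _ fun y => ?_
    by_cases hy : y = x j₀
    · exact mono_left _ (mono_s_of_isSplit _ (h₁.split y fun j hj => by rw [hy]; exact hne j hj))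
    · exact mono_right _ (mono_s_of_isSplit _ (hsp₂ y hy))
  obtain ⟨T, ⟨hsum⟩⟩ := exists_isSum T₁ T₂ hepi hmono
  have hcoh₂ : Coh.IsCoh T₂.E := by
    have hepi := B.epi
    refine Groth.Agent.PerfA.CohSerre.isCoh_of_iso
      (IsColimit.coconePointUniqueUpToIso B.ex.gIsCokernel (cokernelIsCokernel _)).symm ?_
    exact Groth.Agent.Sga67.CohBasic.isCoh_cokernel _ (isCoh_O 2 (-2)).1
      (Groth.Agent.Sga67.CohBasic.isCoh_biprod (isCoh_O 2 0)
        (Groth.Agent.Sga67.CohBasic.isCoh_biprod (isCoh_O 2 (-1)) (isCoh_O 2 (-1))))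
  have hcoh : Coh.IsCoh T.E := by
    have hK : Coh.IsCoh hsum.K := Groth.Agent.Sga67.CohBasic.isCoh_X₁ hsum.ek
      (Groth.Agent.Sga67.CohBasic.isCoh_biprod h₁.coh hcoh₂) (isCoh_O 2 0).1
    exact Groth.Agent.Sga67.CohBasic.isCoh_X₃ hsum.ej (isCoh_O 2 0).1 hK
  have hst : ∀ y : CohB1.ProjSpace 2 k, Nonempty (IsSum (T₁.map (stalkMod y) (Iso.refl _))
      (T₂.map (stalkMod y) (Iso.refl _)) (T.map (stalkMod y) (Iso.refl _))) := fun y =>
    hsum.map (stalkMod y) (Iso.refl _) (hsum.ek.map_of_exact _) (hsum.ej.map_of_exact _)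
  have hrk : ∀ y : CohB1.ProjSpace 2 k, Nonempty ((stalkMod y).obj T.E ≅
      (stalkMod y).obj (Twist.twistProjSpace 2 k 0) ⊞ (stalkMod y).obj (Twist.twistProjSpace 2 k 0)) := by
    intro y
    obtain ⟨hs⟩ := hst y
    by_cases hy : y = x j₀
    · obtain ⟨e, _⟩ := equiv_of_isSplit_left hs (h₁.split y fun j hj => by rw [hy]; exact hne j hj)
      obtain ⟨e'⟩ := nonempty_stalk_iso B y (by rw [hy]; exact hw)
      exact ⟨e ≪≫ e'⟩
    · obtain ⟨e, _⟩ := equiv_of_isSplit_right hs (hsp₂ y hy)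
      obtain ⟨e'⟩ := h₁.rk y
      exact ⟨e ≪≫ e'⟩
  refine ⟨T, hcoh, hrk, fun y hy => ?_, fun A hA => ?_⟩
  · obtain ⟨hs⟩ := hst y
    have hy0 : y ≠ x j₀ := fun h => hy j₀ (Finset.mem_insert_self _ _) h.symm
    have hy1 : ∀ j ∈ J, x j ≠ y := fun j hj => hy j (Finset.mem_insert_of_mem hj)
    exact (h₁.split y hy1).of_equiv (equiv_of_isSplit_right hs (hsp₂ y hy0)).symm
  · have hlf : FlatMod.IsFinLocFree T.E :=
      Groth.Agent.Krr.H495.Rank.isFinLocFree_of_rank (isFinLocFreeOfRank_two hcoh hrk)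
    obtain ⟨hs⟩ := hsum.map (Scheme.Modules.pullback (emb A hA)) (pullTw A hA 0)
      (Groth.Agent.Krr.H496.PullK0.shortExact_pullback_of_isFinLocFree (emb A hA) hsum.ek
        (Groth.Agent.Krr.H495.Rank.isFinLocFree_of_rank (isFinLocFree_O 2 0)))
      (Groth.Agent.Krr.H496.PullK0.shortExact_pullback_of_isFinLocFree (emb A hA) hsum.ej hlf)
    obtain ⟨f, hf, e₁⟩ := h₁.line A hA
    obtain ⟨B'⟩ := isBlk_rest B A hA
    have hzero : ∀ z : CohB1.ProjSpace 1 k, lf (A u) ∈ idl z → lf (A v) ∈ idl z → emb A hA z = x j₀ := by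
      intro z h1 h2
      exact huv _ ((lf_mem_idl_emb hA z u).mpr h1) ((lf_mem_idl_emb hA z v).mpr h2)
    by_cases hx : x j₀ ∈ Set.range (emb A hA)
    · obtain ⟨h, α, β, γ, δ, hAu, hAv, h1⟩ := exists_of_mem hA hcl hx hu hv hli
      have hh : ∀ z : CohB1.ProjSpace 1 k, lf h ∈ idl z → emb A hA z = x j₀ := by
        intro z hz
        refine hzero z ?_ ?_
        · rw [hAu, lf_smul]
          exact C_mul_mem _ hz
        · rw [hAv, lf_smul]
          exact C_mul_mem _ hz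
      have e₂ := equiv_std_of_mul B' h α β γ δ hAu hAv h1 (fun z => by
        by_contra hcon
        rw [not_or, not_not, not_not] at hcon
        have h2 := (lf_mem_idl_emb hA z w).mpr hcon.1
        rw [hh z hcon.2] at h2
        exact hw h2)
      obtain ⟨hs'⟩ := hs.congr e₁ e₂
      obtain ⟨hs''⟩ := stdT_sum f (lform h) (fun z => by
        by_contra hcon
        rw [not_or, not_not, not_not] at hcon
        obtain ⟨j, hj, hj'⟩ := hf z hcon.1
        exact hne j hj (hj'.symm.trans (hh z hcon.2)))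
      have hc : cnt (insert j₀ J) x A hA = cnt J x A hA + 1 := by
        classical
        unfold cnt
        rw [Finset.filter_insert, if_pos hx, Finset.card_insert_of_notMem]
        intro hmem
        exact hj₀ (Finset.mem_filter.mp hmem).1
      rw [hc]
      refine ⟨mulF f (lform h), fun z hz => ?_, hs'.unique hs''⟩
      rcases mul_mem_idl z hz with hz | hz
      · obtain ⟨j, hj, hj'⟩ := hf z hz
        exact ⟨j, Finset.mem_insert_of_mem hj, hj'⟩
      · exact ⟨j₀, Finset.mem_insert_self _ _, hh z hz⟩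
    · have huv' : ∀ z : CohB1.ProjSpace 1 k, ¬ (lf (A u) ∈ idl z ∧ lf (A v) ∈ idl z) := fun z hz =>
        hx ⟨z, hzero z hz.1 hz.2⟩
      obtain ⟨α, β, hAw⟩ := exists_of_notMem hA huv' w
      have hsp := isSplit_of_comb B' (fun z => by
        by_contra hcon
        rw [not_or, not_not, not_not] at hcon
        exact huv' z hcon) α β hAw
      have hc : cnt (insert j₀ J) x A hA = cnt J x A hA := by
        classical
        unfold cnt
        rw [Finset.filter_insert, if_neg hx]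
      rw [hc]
      refine ⟨f, fun z hz => ?_, (equiv_of_isSplit_right hs hsp).trans e₁⟩
      obtain ⟨j, hj, hj'⟩ := hf z hz
      exact ⟨j, Finset.mem_insert_of_mem hj, hj'⟩

theorem exists_good [IsAlgClosed k] {ι : Type} (J : Finset ι) (x : ι → CohB1.ProjSpace 2 k)
    (hx : Function.Injective x) (hcl : ∀ j, IsClosed ({x j} : Set (CohB1.ProjSpace 2 k))) :
    ∃ T : Tri (Twist.twistProjSpace 2 k 0), IsGood J x T := by
  classical
  induction J using Finset.induction_on with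
  | empty => exact good_empty x
  | insert j₀ J hj₀ ih =>
    obtain ⟨T₁, h₁⟩ := ih
    exact good_step J x j₀ hj₀ (fun j hj h => hj₀ (hx h ▸ hj)) (hcl j₀) h₁

end K697.Jump
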