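import Groth.Agent.VBPn.K697.Chain

/-!
# Vanishing of `H^0(E(-d))`, `d ≥ 1`, from a linear subspace
-/

set_option autoImplicit false
universe u

open CategoryTheory CategoryTheory.Limits AlgebraicGeometry

namespace K697.H0Neg

open K697.Lin K697.LinSeq K697.Lift K697.Chain K697.NegVan K697.IsoCrit K697.ProjNat

variable {k : Type u} [Field k] {n m : ℕ}

/-- `O^r ≅ ⊕ O(0)`. -/
noncomputable def freeIso (n r : ℕ) (k : Type u) [Field k] :
    FlatMod.freeMod (CohB1.ProjSpace n k) r ≅ ∐ fun _ : Fin r => Twist.twistProjSpace n k 0 :=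
  Sigma.mapIso fun _ => zeroIso n k

variable {A : (Fin (n + 1) → k) →ₗ[k] (Fin (m + 1) → k)} (hA : Function.Surjective A)
    {s : Fin (n + 1) → k} {E : (CohB1.ProjSpace n k).Modules} (hs : A s = 0) (hs0 : s ≠ 0)
    (hker : LinearMap.ker A = Submodule.span k {s})

include hs hs0 hker in
/-- If `H^q(E_H(d)) = 0` for all `d ≤ d₁` and `q < n` then `H^q(E(d)) = 0` for all `d ≤ d₁`. -/
theorem neg_step (hE : FlatMod.IsFinLocFree E) (q : ℕ) (hq : q < n) (d₁ : ℤ)
    (h : ∀ d : ℤ, d ≤ d₁ → Subsingleton (Coh.HH (CohB1.ProjSpace m k) (tw (restE A hA E) d) q)) (d : ℤ)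
    (hd1 : d ≤ d₁) : Subsingleton (Coh.HH (CohB1.ProjSpace n k) (tw E d) q) := by
  obtain ⟨d₀, hd₀⟩ := negVan hE
  rcases le_total d d₀ with hd | hd
  · exact hd₀ d hd q hq
  · induction d, hd using Int.leInduction with
    | base => exact hd₀ d₀ le_rfl q hq
    | succ d hd ih => exact sub₂ hA (hasBases hE) hs hs0 hker rfl q (ih (by omega)) (h (d + 1) hd1)

/-- `H^0(E(d)) = 0` for `d ≤ d₁` if `E` is `⊕ O(a_j)` on a linear subspace with all `a_j + d₁ < 0`. -/
theorem h0_of_linear (hm : 1 ≤ m) (d₁ : ℤ) {ι : Type} [Finite ι] (a : ι → ℤ) (ha : ∀ j, a j + d₁ < 0) :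
    ∀ (n : ℕ) (A : (Fin (n + 1) → k) →ₗ[k] (Fin (m + 1) → k)) (hA : Function.Surjective A)
      (E : (CohB1.ProjSpace n k).Modules), FlatMod.IsFinLocFree E →
      Nonempty (restE A hA E ≅ ∐ fun j => Twist.twistProjSpace m k (a j)) →
      ∀ d : ℤ, d ≤ d₁ → Subsingleton (Coh.HH (CohB1.ProjSpace n k) (tw E d) 0) := by
  intro n
  induction n with
  | zero =>
    intro A hA
    have := le_of_surjective A hA
    omega
  | succ n ih =>
    intro A hA E hE e d hd
    rcases Nat.lt_or_ge n m with h | h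
    · have h1 := le_of_surjective A hA
      obtain rfl : m = n + 1 := by omega
      obtain ⟨e⟩ := split_of_bij A hA a e
      refine Groth.Agent.Fga.HShift.subsingleton_of_iso (twIso e d).symm 0 (subsingleton_HH_sum a d 0 fun j => ?_)
      have := ha j
      exact Groth.Agent.S0844.result k (n + 1) (a j + d) 0 (by omega) (by omega)
    · obtain ⟨s, C, B, hs0, hs, hC, hker, hB, rfl⟩ := exists_factor A hA h
      obtain ⟨e⟩ := e
      have h2 := ih B hB (restE C hC E) (isFinLocFree_restE hC hE) ⟨(restComp B hB C hC hA E).symm ≪≫ e⟩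
      exact neg_step hC hs hs0 hker hE 0 (by omega) d₁ h2 d hd

end K697.H0Neg
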