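import Groth.Prelude.Def_CohB1
import Groth.Agent.Sga5.ProjSurj
import Groth.Agent.Ega2.H291.MapZero
import Mathlib.LinearAlgebra.Basis.VectorSpace
import Mathlib.RingTheory.Ideal.Quotient.Operations

/-!
# Linear maps between projective spaces

For a linear map `A : k^(n+1) → k^(m+1)` (on the spaces of linear forms):
* `lf v = ∑ v_j X_j`, `subst A : k[X_0..X_n] → k[Y_0..Y_m]`, `X_i ↦ lf (A e_i)`;
* `gr A` the graded ring homomorphism; for `A` surjective `emb A : P^m ⟶ P^n` is a closed immersion over `k`;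
* `emb_comp : emb (B ∘ A) = emb B ≫ emb A`;
* `ker_subst`: if `ker A = k s` then `ker (subst A) = (lf s)`.
-/

set_option autoImplicit false
universe u

open CategoryTheory AlgebraicGeometry MvPolynomial

namespace K697.Lin

variable {k : Type u} [Field k] {n m l : ℕ}

/-- The linear form with coefficient vector `v`. -/
noncomputable def lf (v : Fin (n + 1) → k) : MvPolynomial (Fin (n + 1)) k := ∑ j, C (v j) * X j

theorem lf_add (v w : Fin (n + 1) → k) : lf (v + w) = lf v + lf w := by
  simp [lf, add_mul, Finset.sum_add_distrib]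

theorem lf_smul (c : k) (v : Fin (n + 1) → k) : lf (c • v) = C c * lf v := by
  simp [lf, Finset.mul_sum, mul_assoc]

@[simp] theorem lf_zero : lf (0 : Fin (n + 1) → k) = 0 := by simp [lf]

theorem lf_single (i : Fin (n + 1)) : lf (Pi.single i (1 : k)) = X i := by
  rw [lf, Finset.sum_eq_single i]
  · simp
  · intro j _ hj
    simp [Pi.single_eq_of_ne hj]
  · intro h
    exact absurd (Finset.mem_univ i) h

/-- `lf` as a linear map. -/
noncomputable def lfL : (Fin (n + 1) → k) →ₗ[k] MvPolynomial (Fin (n + 1)) k where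
  toFun := lf
  map_add' := lf_add
  map_smul' c v := by rw [lf_smul, RingHom.id_apply, MvPolynomial.smul_eq_C_mul]

theorem lf_mem (v : Fin (n + 1) → k) : lf v ∈ CohB1.polyGrading n k 1 := by
  refine Submodule.sum_mem _ fun j _ => ?_
  rw [← MvPolynomial.smul_eq_C_mul]
  exact Submodule.smul_mem _ _ (isHomogeneous_X k j)

theorem coeff_lf (v : Fin (n + 1) → k) (i : Fin (n + 1)) : coeff (Finsupp.single i 1) (lf v) = v i := by
  classical
  rw [lf, coeff_sum, Finset.sum_eq_single i]
  · rw [coeff_C_mul, coeff_X, if_pos rfl, mul_one]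
  · intro j _ hj
    rw [coeff_C_mul, coeff_X, if_neg, mul_zero]
    intro h
    exact hj (Finsupp.single_left_injective one_ne_zero h)
  · intro h
    exact absurd (Finset.mem_univ i) h

theorem lf_injective : Function.Injective (lf : (Fin (n + 1) → k) → MvPolynomial (Fin (n + 1)) k) := by
  intro v w h
  funext i
  rw [← coeff_lf v i, ← coeff_lf w i, h]

theorem lf_ne_zero {v : Fin (n + 1) → k} (hv : v ≠ 0) : lf v ≠ 0 := by
  intro h
  exact hv (lf_injective (h.trans lf_zero.symm))

/-- Substitution of the linear forms `A e_i` for `X_i`. -/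
noncomputable def subst (A : (Fin (n + 1) → k) →ₗ[k] (Fin (m + 1) → k)) :
    MvPolynomial (Fin (n + 1)) k →ₐ[k] MvPolynomial (Fin (m + 1)) k :=
  aeval fun i => lf (A (Pi.single i 1))

theorem subst_X (A : (Fin (n + 1) → k) →ₗ[k] (Fin (m + 1) → k)) (i : Fin (n + 1)) :
    subst A (X i) = lf (A (Pi.single i 1)) := aeval_X _ _

theorem subst_lf (A : (Fin (n + 1) → k) →ₗ[k] (Fin (m + 1) → k)) (v : Fin (n + 1) → k) :
    subst A (lf v) = lf (A v) := by
  have h1 : v = ∑ i, v i • (Pi.single i (1 : k) : Fin (n + 1) → k) := by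
    classical
    funext j
    simp [Finset.sum_apply, Pi.single_apply]
  conv_rhs => rw [h1]
  change _ = lfL (A _)
  rw [map_sum, map_sum, lf, map_sum]
  refine Finset.sum_congr rfl fun i _ => ?_
  rw [map_smul, map_smul, map_mul, subst_X, MvPolynomial.smul_eq_C_mul]
  congr 1
  exact (subst A).commutes (v i)

theorem subst_comp (B : (Fin (m + 1) → k) →ₗ[k] (Fin (l + 1) → k)) (A : (Fin (n + 1) → k) →ₗ[k] (Fin (m + 1) → k)) :
    subst (B ∘ₗ A) = (subst B).comp (subst A) := by
  apply MvPolynomial.algHom_ext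
  intro i
  rw [subst_X, AlgHom.comp_apply, subst_X, subst_lf, LinearMap.comp_apply]

theorem subst_id : subst (LinearMap.id : (Fin (n + 1) → k) →ₗ[k] (Fin (n + 1) → k)) = AlgHom.id k _ := by
  apply MvPolynomial.algHom_ext
  intro i
  rw [subst_X, LinearMap.id_apply, lf_single, AlgHom.id_apply]

theorem subst_isHomogeneous (A : (Fin (n + 1) → k) →ₗ[k] (Fin (m + 1) → k)) {d : ℕ}
    {p : MvPolynomial (Fin (n + 1)) k} (hp : p ∈ CohB1.polyGrading n k d) :
    subst A p ∈ CohB1.polyGrading m k d := by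
  rw [mem_homogeneousSubmodule] at hp ⊢
  have h := hp.aeval (fun i => lf (A (Pi.single i 1))) (n := 1) fun i => (mem_homogeneousSubmodule _ _).mp (lf_mem _)
  rwa [one_mul] at h

/-- The graded ring homomorphism attached to a linear map. -/
noncomputable def gr (A : (Fin (n + 1) → k) →ₗ[k] (Fin (m + 1) → k)) :
    CohB1.polyGrading n k →+*ᵍ CohB1.polyGrading m k where
  toRingHom := (subst A : MvPolynomial (Fin (n + 1)) k →+* _)
  map_mem := fun h => subst_isHomogeneous A h

theorem gr_apply (A : (Fin (n + 1) → k) →ₗ[k] (Fin (m + 1) → k)) (p : MvPolynomial (Fin (n + 1)) k) :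
    gr A p = subst A p := rfl

/-- A linear section of a surjective linear map gives a section of `subst`. -/
theorem subst_subst {A : (Fin (n + 1) → k) →ₗ[k] (Fin (m + 1) → k)} {σ : (Fin (m + 1) → k) →ₗ[k] (Fin (n + 1) → k)}
    (h : A ∘ₗ σ = LinearMap.id) (p : MvPolynomial (Fin (m + 1)) k) : subst A (subst σ p) = p := by
  rw [← AlgHom.comp_apply, ← subst_comp, h, subst_id, AlgHom.id_apply]

theorem degSurj {A : (Fin (n + 1) → k) →ₗ[k] (Fin (m + 1) → k)} (hA : Function.Surjective A) :
    Groth.Agent.Sga5.ProjSurj.DegSurj (gr A) := by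
  intro i b hb
  obtain ⟨σ, hσ⟩ := A.exists_rightInverse_of_surjective (LinearMap.range_eq_top.mpr hA)
  exact ⟨subst σ b, subst_isHomogeneous σ hb, subst_subst hσ b⟩

/-- The kernel of the substitution attached to a surjective linear map with kernel spanned by `s`. -/
theorem ker_subst {A : (Fin (n + 1) → k) →ₗ[k] (Fin (m + 1) → k)} (hA : Function.Surjective A)
    {s : Fin (n + 1) → k} (hs : LinearMap.ker A = Submodule.span k {s}) (p : MvPolynomial (Fin (n + 1)) k)
    (hp : subst A p = 0) : ∃ q, p = lf s * q := by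
  obtain ⟨σ, hσ⟩ := A.exists_rightInverse_of_surjective (LinearMap.range_eq_top.mpr hA)
  let I : Ideal (MvPolynomial (Fin (n + 1)) k) := Ideal.span {lf s}
  have key : (Ideal.Quotient.mkₐ k I) = (Ideal.Quotient.mkₐ k I).comp ((subst σ).comp (subst A)) := by
    apply MvPolynomial.algHom_ext
    intro i
    rw [AlgHom.comp_apply, AlgHom.comp_apply, subst_X, subst_lf]
    refine (Ideal.Quotient.eq (I := I)).mpr ?_
    have h1 : (Pi.single i (1 : k) : Fin (n + 1) → k) - σ (A (Pi.single i 1)) ∈ LinearMap.ker A := by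
      rw [LinearMap.mem_ker, map_sub, sub_eq_zero]
      exact (congrArg (fun f => f (A (Pi.single i 1))) hσ).symm
    rw [hs, Submodule.mem_span_singleton] at h1
    obtain ⟨c, hc⟩ := h1
    have h2 : X i - lf (σ (A (Pi.single i 1))) = C c * lf s := by
      rw [← lf_smul, hc, ← lf_single (k := k) i]
      exact (map_sub lfL _ _).symm
    rw [h2]
    exact Ideal.mul_mem_left _ _ (Ideal.subset_span rfl)
  have h3 : Ideal.Quotient.mkₐ k I p = 0 := by
    rw [key, AlgHom.comp_apply, AlgHom.comp_apply, hp, map_zero, map_zero]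
  have h4 : p ∈ I := Ideal.Quotient.eq_zero_iff_mem.mp h3
  obtain ⟨q, hq⟩ := Ideal.mem_span_singleton'.mp h4
  exact ⟨q, by rw [← hq, mul_comm]⟩

section Emb

/-- The linear embedding `P^m ⟶ P^n` attached to a surjective linear map `k^(n+1) → k^(m+1)`. -/
noncomputable def emb (A : (Fin (n + 1) → k) →ₗ[k] (Fin (m + 1) → k)) (hA : Function.Surjective A) :
    CohB1.ProjSpace m k ⟶ CohB1.ProjSpace n k :=
  Proj.map (gr A) (Groth.Agent.Sga5.ProjSurj.irrelevant_le_map (degSurj hA))

instance isClosedImmersion_emb (A : (Fin (n + 1) → k) →ₗ[k] (Fin (m + 1) → k)) (hA : Function.Surjective A) :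
    IsClosedImmersion (emb A hA) :=
  Groth.Agent.Sga5.ProjSurj.isClosedImmersion_map _ (degSurj hA)

theorem emb_toSpec (A : (Fin (n + 1) → k) →ₗ[k] (Fin (m + 1) → k)) (hA : Function.Surjective A) :
    emb A hA ≫ CohB1.ProjSpace.toSpec n k = CohB1.ProjSpace.toSpec m k :=
  Groth.Agent.Ega2.H291.MapZero.map_toSpec _ _ fun c => (subst A).commutes c

theorem map_congr {f g : CohB1.polyGrading n k →+*ᵍ CohB1.polyGrading m k} (h : f = g)
    (hf : HomogeneousIdeal.irrelevant (CohB1.polyGrading m k) ≤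
      (HomogeneousIdeal.irrelevant (CohB1.polyGrading n k)).map f)
    (hg : HomogeneousIdeal.irrelevant (CohB1.polyGrading m k) ≤
      (HomogeneousIdeal.irrelevant (CohB1.polyGrading n k)).map g) :
    Proj.map f hf = Proj.map g hg := by
  subst h
  rfl

theorem emb_comp (B : (Fin (m + 1) → k) →ₗ[k] (Fin (l + 1) → k)) (A : (Fin (n + 1) → k) →ₗ[k] (Fin (m + 1) → k))
    (hB : Function.Surjective B) (hA : Function.Surjective A) (hBA : Function.Surjective (B ∘ₗ A)) :
    emb (B ∘ₗ A) hBA = emb B hB ≫ emb A hA := by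
  have h1 := Proj.map_comp (gr A) (gr B) (Groth.Agent.Sga5.ProjSurj.irrelevant_le_map (degSurj hA))
    (Groth.Agent.Sga5.ProjSurj.irrelevant_le_map (degSurj hB))
  refine (map_congr ?_ _ _).trans h1
  apply GradedRingHom.ext
  intro p
  exact congrArg (fun f => f p) (subst_comp B A)

theorem emb_id (h : Function.Surjective (LinearMap.id : (Fin (n + 1) → k) →ₗ[k] (Fin (n + 1) → k))) :
    emb (LinearMap.id : (Fin (n + 1) → k) →ₗ[k] (Fin (n + 1) → k)) h = 𝟙 _ := by
  have h2 : gr (LinearMap.id : (Fin (n + 1) → k) →ₗ[k] (Fin (n + 1) → k)) = GradedRingHom.id _ := by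
    apply GradedRingHom.ext
    intro P
    exact congrArg (fun f => f P) subst_id
  refine (map_congr h2 _ (by simp)).trans ?_
  exact Proj.map_id

theorem emb_congr {A B : (Fin (n + 1) → k) →ₗ[k] (Fin (m + 1) → k)} (h : A = B) (hA : Function.Surjective A)
    (hB : Function.Surjective B) : emb A hA = emb B hB := by
  subst h
  rfl

end Emb

end K697.Lin
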