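import Groth.Agent.VBPn.K697.H0Neg
import Groth.Agent.FormalB.ProjScalar
import Groth.Agent.VarietyB.HHLes
import Groth.Agent.S0038
import Mathlib.LinearAlgebra.Eigenspace.Triangularizable

/-!
# The pencil argument

If multiplication by every nonzero linear form in a two-dimensional space is bijective
`H^q(E(d)) → H^q(E(d + 1))` then both groups vanish (`k` algebraically closed).
-/

set_option autoImplicit false
universe u

open CategoryTheory CategoryTheory.Limits AlgebraicGeometry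

namespace K697.Pencil

open K697.Lin K697.LinSeq K697.Lift K697.Chain K697.NegVan K697.IsoCrit K697.ProjNat K699.TwHom
open Groth.Agent.VarietyB.HHLes Groth.Agent.Divis.ProjPic

variable {k : Type u} [Field k] {n : ℕ}

theorem mulLin_smul (c : k) (v : Fin (n + 1) → k) {d d' : ℤ} (h : d + 1 = d') :
    mulLin (c • v) h = mulLin v h ≫ Formal.smulMod k (Twist.twistProjSpace n k d') c := by
  refine Groth.Agent.VarietyB.TwistMul.hom_ext_apply _ _ fun U t => ?_
  refine evT_ext (𝒜 := CohB1.polyGrading n k) (d := d') fun x hx => ?_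
  have h1 : evT (𝒜 := CohB1.polyGrading n k) (d := d') ((mulLin (c • v) h).app U t) x hx =
      al x (lf (c • v)) * evT (𝒜 := CohB1.polyGrading n k) (d := d) t x hx := rfl
  have h2 : evT (𝒜 := CohB1.polyGrading n k) (d := d') ((mulLin v h).app U t) x hx =
      al x (lf v) * evT (𝒜 := CohB1.polyGrading n k) (d := d) t x hx := rfl
  have h3 := evT_smul (𝒜 := CohB1.polyGrading n k) (d := d')
    (Coh.resTop (CohB1.ProjSpace n k) (Opposite.op U) (Coh.toGlobal (CohB1.ProjSpace n k ↘ Spec (CommRingCat.of k)) c))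
    ((mulLin v h).app U t) x hx
  refine h1.trans (Eq.trans ?_ h3.symm)
  rw [h2, lf_smul, map_mul]
  have h4 := Groth.Agent.FormalB.ProjScalar.toGlobal_val n k c (Opposite.op U) x hx
  have h5 : al x (MvPolynomial.C c) = algebraMap k (Twist.Loc (CohB1.polyGrading n k) x) c := rfl
  rw [h5, mul_assoc]
  congr 1
  exact h4.symm

theorem tensMap_smulMod (E : (CohB1.ProjSpace n k).Modules) {d : ℤ} (c : k) :
    Groth.Agent.VarietyB.RestrSeq.tensMap E (Formal.smulMod k (Twist.twistProjSpace n k d) c) =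
      Formal.smulMod k (tw E d) c := by
  refine Groth.Agent.Ega2.Tens.hom_ext _ _ fun U e t => ?_
  refine (Groth.Agent.VarietyB.TensLoc.tensorBi_map_app_tmul E _ e t).trans ?_
  exact Groth.Agent.VarietyB.TensLoc.tmul_smul (Coh.resTop (CohB1.ProjSpace n k) (Opposite.op U)
    (Coh.toGlobal (CohB1.ProjSpace n k ↘ Spec (CommRingCat.of k)) c)) e t

theorem mulE_smul (E : (CohB1.ProjSpace n k).Modules) (c : k) (v : Fin (n + 1) → k) {d d' : ℤ} (h : d + 1 = d') :
    mulE E (c • v) h = mulE E v h ≫ Formal.smulMod k (tw E d') c := by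
  unfold mulE
  rw [mulLin_smul, ← tensMap_smulMod]
  exact (DCoh.tensorBi.obj E).map_comp _ _

theorem Hmap_add' {X : Scheme.{u}} [X.Over (Spec (CommRingCat.of k))] {M N : X.Modules} (f g : M ⟶ N) (q : ℕ)
    (x : Hn k X M q) : Hmap k (f + g) q x = Hmap k f q x + Hmap k g q x :=
  Groth.Agent.CohqB.HSeqMod.hmap_add_apply f g q x

theorem Hmap_smulMod {X : Scheme.{u}} [X.Over (Spec (CommRingCat.of k))] {M : X.Modules} (c : k) (q : ℕ)
    (x : Hn k X M q) : Hmap k (Formal.smulMod k M c) q x = c • x :=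
  rfl

theorem Hmap_mulE (E : (CohB1.ProjSpace n k).Modules) (c : k) (v w : Fin (n + 1) → k) {d d' : ℤ} (h : d + 1 = d')
    (q : ℕ) (x : Hn k (CohB1.ProjSpace n k) (tw E d) q) :
    Hmap k (mulE E (w + c • v) h) q x = Hmap k (mulE E w h) q x + c • Hmap k (mulE E v h) q x := by
  rw [mulE_add, Hmap_add', mulE_smul, Hmap_comp, LinearMap.comp_apply, Hmap_smulMod]

theorem subsingleton_of_pencil [IsAlgClosed k] {V W : Type*} [AddCommGroup V] [Module k V] [AddCommGroup W]
    [Module k W] [Module.Finite k V] (f g : V →ₗ[k] W) (hf : Function.Bijective f)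
    (h : ∀ c : k, ∀ v : V, g v + c • f v = 0 → v = 0) : Subsingleton V := by
  by_contra hV
  rw [not_subsingleton_iff_nontrivial] at hV
  let e := LinearEquiv.ofBijective f hf
  let T : Module.End k V := e.symm.toLinearMap ∘ₗ g
  obtain ⟨c, hc⟩ := Module.End.exists_eigenvalue T
  obtain ⟨v, hv⟩ := hc.exists_hasEigenvector
  have h1 : T v = c • v := hv.apply_eq_smul
  have h2 : g v = c • f v := by
    have h3 : e (T v) = g v := e.apply_symm_apply (g v)
    rw [← h3, h1, map_smul]
    rfl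
  exact hv.2 (h (-c) v (by rw [h2, neg_smul, add_neg_cancel]))

theorem isCoh_tw {E : (CohB1.ProjSpace n k).Modules} (hE : FlatMod.IsFinLocFree E) (d : ℤ) : Coh.IsCoh (tw E d) :=
  Groth.Agent.VarietyB.TensCoh.isCoh_tensorMod (hasBases hE)
    (isCoh_of_isFinLocFree (Groth.Agent.Sga2.PnCoprod.isFinLocFree_tw n k d))

section Bij

variable {m : ℕ} {C : (Fin (n + 1) → k) →ₗ[k] (Fin (m + 1) → k)} (hC : Function.Surjective C)
    {s : Fin (n + 1) → k} {E : (CohB1.ProjSpace n k).Modules} (hE : FlatMod.IsFinLocFree E) (hs : C s = 0)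
    (hs0 : s ≠ 0) (hker : LinearMap.ker C = Submodule.span k {s}) {d d' : ℤ} (h : d + 1 = d')

include hE hs hs0 hker hC in
theorem eq_zero_of_mul (q : ℕ) (h0 : Subsingleton (Coh.HH (CohB1.ProjSpace m k) (tw (restE C hC E) d') q))
    (x : Hn k (CohB1.ProjSpace n k) (tw E d) (q + 1)) (hx : Hmap k (mulE E s h) (q + 1) x = 0) : x = 0 := by
  obtain ⟨y, rfl⟩ := exact₁ k (shortExact_hypSeq hC (hasBases hE) hs hs0 hker h) q x hx
  have h1 : Subsingleton (Hn k (CohB1.ProjSpace n k) (hypSeq hC (hasBases hE) hs h).X₃ q) :=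
    (subsingleton_push_restE hC (hasBases hE) q).mpr h0
  rw [Subsingleton.elim y 0, map_zero]
  rfl

include hE hs hs0 hker hC in
theorem mul_surjective (q : ℕ) (h0 : Subsingleton (Coh.HH (CohB1.ProjSpace m k) (tw (restE C hC E) d') q)) :
    Function.Surjective (Hmap k (mulE E s h) q) := by
  intro x
  have h1 : Subsingleton (Hn k (CohB1.ProjSpace n k) (hypSeq hC (hasBases hE) hs h).X₃ q) :=
    (subsingleton_push_restE hC (hasBases hE) q).mpr h0
  exact exact₂ k (shortExact_hypSeq hC (hasBases hE) hs hs0 hker h) q x (Subsingleton.elim _ _)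

end Bij

/-- The pencil argument. -/
theorem pencil [IsAlgClosed k] {E : (CohB1.ProjSpace (n + 1) k).Modules} (hE : FlatMod.IsFinLocFree E)
    (s₁ s₂ : Fin (n + 1 + 1) → k) (hli : ∀ a b : k, a • s₁ + b • s₂ = 0 → a = 0 ∧ b = 0) {d d' : ℤ}
    (h : d + 1 = d') (q : ℕ)
    (H : ∀ (a b : k), a • s₁ + b • s₂ ≠ 0 →
      ∀ (C : (Fin (n + 1 + 1) → k) →ₗ[k] (Fin (n + 1) → k)) (hC : Function.Surjective C),
        LinearMap.ker C = Submodule.span k {a • s₁ + b • s₂} →
        Subsingleton (Coh.HH (CohB1.ProjSpace n k) (tw (restE C hC E) d') q) ∧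
        Subsingleton (Coh.HH (CohB1.ProjSpace n k) (tw (restE C hC E) d') (q + 1))) :
    Subsingleton (Coh.HH (CohB1.ProjSpace (n + 1) k) (tw E d') (q + 1)) := by
  have key : ∀ a b : k, a • s₁ + b • s₂ ≠ 0 →
      (∀ x : Hn k (CohB1.ProjSpace (n + 1) k) (tw E d) (q + 1),
        Hmap k (mulE E (a • s₁ + b • s₂) h) (q + 1) x = 0 → x = 0) ∧
      Function.Surjective (Hmap k (mulE E (a • s₁ + b • s₂) h) (q + 1)) := by
    intro a b hab
    obtain ⟨C, hC, hker⟩ := exists_quot (a • s₁ + b • s₂) hab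
    have hs : C (a • s₁ + b • s₂) = 0 := by
      have : a • s₁ + b • s₂ ∈ LinearMap.ker C := by rw [hker]; exact Submodule.mem_span_singleton_self _
      exact this
    obtain ⟨h1, h2⟩ := H a b hab C hC hker
    exact ⟨eq_zero_of_mul hC hE hs hab hker h q h1, mul_surjective hC hE hs hab hker h (q + 1) h2⟩
  have k1 := key 1 0 (fun h0 => one_ne_zero (hli 1 0 h0).1)
  rw [one_smul, zero_smul, add_zero] at k1
  have hfin : Module.Finite k (Hn k (CohB1.ProjSpace (n + 1) k) (tw E d) (q + 1)) :=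
    Groth.Agent.S0038.result (n + 1) k (tw E d) (isCoh_tw hE d) (q + 1)
  have h1 : Subsingleton (Hn k (CohB1.ProjSpace (n + 1) k) (tw E d) (q + 1)) := by
    refine subsingleton_of_pencil (Hmap k (mulE E s₁ h) (q + 1)) (Hmap k (mulE E s₂ h) (q + 1))
      ⟨(injective_iff_map_eq_zero _).mpr k1.1, k1.2⟩ fun c x hx => ?_
    have k2 := (key c 1 (fun h0 => one_ne_zero (hli c 1 h0).2)).1
    rw [one_smul, add_comm (c • s₁) s₂] at k2
    exact k2 x ((Hmap_mulE E c s₁ s₂ h (q + 1) x).trans hx)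
  have h2 : Subsingleton (Hn k (CohB1.ProjSpace (n + 1) k) (tw E d') (q + 1)) := k1.2.subsingleton
  exact h2

end K697.Pencil
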