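import Groth.Agent.VBPn.K697.TriKos
import Groth.Agent.Dcoh.StalkMod
import Groth.Agent.VarietyB.TwistMul

/-!
# Koszul squares for forms on `Proj`, checked on stalks
-/

set_option autoImplicit false

universe u

open CategoryTheory CategoryTheory.Limits AlgebraicGeometry TopologicalSpace Opposite

namespace K697.KosPn

open K697.Tri Groth.Agent.Dcoh.StalkMod Groth.Agent.CycB.StalkExact Groth.Agent.VarietyB.TwistMul

variable {X : Scheme.{u}}

theorem shortExact_of_stalks (S : ShortComplex X.Modules) (h : ∀ x : X, (S.map (stalkMod x)).ShortExact) :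
    S.ShortExact := by
  refine ShortComplex.ShortExact.mk' (exact_of_stalks S fun x => ?_) (mono_of_injective _ fun x => ?_)
    (epi_of_surjective _ fun x => ?_)
  · exact (ShortComplex.ShortExact.moduleCat_exact_iff_function_exact _).mp (h x).exact
  · exact (ModuleCat.mono_iff_injective _).mp (h x).mono_f
  · exact (ModuleCat.epi_iff_surjective _).mp (h x).epi_g

theorem isKos_of_stalks {X₁ X₂ X₃ X₄ : X.Modules} {f : X₁ ⟶ X₂} {g : X₁ ⟶ X₃} {g' : X₂ ⟶ X₄} {f' : X₃ ⟶ X₄}
    (w : f ≫ g' = g ≫ f')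
    (h : ∀ x : X, IsKos ((stalkMod x).map f) ((stalkMod x).map g) ((stalkMod x).map g') ((stalkMod x).map f')) :
    IsKos f g g' f' := by
  refine ⟨lift_desc_neg_iff.mpr w, shortExact_of_stalks _ fun x => ?_⟩
  exact shortExact_map_of_isKos (stalkMod x) (lift_desc_neg_iff.mpr w) (h x)

theorem mono_of_stalks {M N : X.Modules} (φ : M ⟶ N) (h : ∀ x : X, Mono ((stalkMod x).map φ)) : Mono φ :=
  mono_of_injective φ fun x => (ModuleCat.mono_iff_injective _).mp (h x)

theorem epi_of_stalks {M N : X.Modules} (φ : M ⟶ N) (h : ∀ x : X, Epi ((stalkMod x).map φ)) : Epi φ :=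
  epi_of_surjective φ fun x => (ModuleCat.epi_iff_surjective _).mp (h x)

/-- A morphism which is bijective on sections over all small opens is an isomorphism on the stalk. -/
theorem isIso_stalk_of_app {M N : X.Modules} (φ : M ⟶ N) (x : X) (U : X.Opens) (hx : x ∈ U)
    (h : ∀ V : X.Opens, V ≤ U → Function.Bijective (φ.app V)) : IsIso ((stalkMod x).map φ) := by
  have h1 : Function.Bijective (stalkLin φ x) := by
    constructor
    · rw [injective_iff_map_eq_zero]
      intro m hm
      obtain ⟨V, hV, s, rfl⟩ := M.presheaf.exists_germ_eq m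
      rw [stalkLin_germ] at hm
      have h2 : N.presheaf.germ V x hV (φ.app V s) = N.presheaf.germ V x hV 0 := by
        rw [hm]
        exact (map_zero (N.presheaf.germ V x hV).hom).symm
      obtain ⟨W, hW, i, j, e⟩ := TopCat.Presheaf.germ_eq N.presheaf x hV hV _ _ h2
      have h3 : φ.app (W ⊓ U) (M.presheaf.map (homOfLE (inf_le_left.trans i.le) : W ⊓ U ⟶ V).op s) = 0 := by
        have h4 : φ.app (W ⊓ U) (M.presheaf.map (homOfLE (inf_le_left.trans i.le) : W ⊓ U ⟶ V).op s) =
            N.presheaf.map (homOfLE (inf_le_left.trans i.le) : W ⊓ U ⟶ V).op (φ.app V s) :=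
          congr($(φ.mapPresheaf.naturality (homOfLE (inf_le_left.trans i.le) : W ⊓ U ⟶ V).op) s)
        rw [h4]
        have h5 : (homOfLE (inf_le_left.trans i.le) : W ⊓ U ⟶ V) = (homOfLE inf_le_left : W ⊓ U ⟶ W) ≫ i :=
          Subsingleton.elim _ _
        rw [h5, op_comp, N.presheaf.map_comp]
        refine (congrArg (N.presheaf.map (homOfLE inf_le_left : W ⊓ U ⟶ W).op) e).trans ?_
        rw [map_zero]
        exact map_zero _
      have h6 : M.presheaf.map (homOfLE (inf_le_left.trans i.le) : W ⊓ U ⟶ V).op s = 0 := by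
        apply (h (W ⊓ U) inf_le_right).1
        rw [h3]
        exact (map_zero (φ.app (W ⊓ U)).hom).symm
      have h7 := TopCat.Presheaf.germ_res_apply M.presheaf (homOfLE (inf_le_left.trans i.le) : W ⊓ U ⟶ V) x
        ⟨hW, hx⟩ s
      rw [← h7, h6]
      exact map_zero (M.presheaf.germ (W ⊓ U) x ⟨hW, hx⟩).hom
    · intro t
      obtain ⟨V, hV, s, rfl⟩ := N.presheaf.exists_germ_eq t
      obtain ⟨s', hs'⟩ := (h (V ⊓ U) inf_le_right).2 (N.presheaf.map (homOfLE inf_le_left : V ⊓ U ⟶ V).op s)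
      refine ⟨M.presheaf.germ (V ⊓ U) x ⟨hV, hx⟩ s', ?_⟩
      rw [stalkLin_germ, hs']
      exact TopCat.Presheaf.germ_res_apply N.presheaf (homOfLE inf_le_left : V ⊓ U ⟶ V) x ⟨hV, hx⟩ s
  exact (ConcreteCategory.isIso_iff_bijective _).mpr h1

section Proj

variable {R A : Type u} [CommRing R] [CommRing A] [Algebra R A] {𝒜 : ℕ → Submodule R A} [GradedAlgebra 𝒜]

theorem isIso_stalk_mulMap {i : ℕ} (a : 𝒜 i) {m m' : ℤ} (h : m + i = m') (x : Proj 𝒜)
    (hx : a.1 ∉ (show ProjectiveSpectrum 𝒜 from x).asHomogeneousIdeal) :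
    IsIso ((stalkMod x).map (mulMap a h)) :=
  isIso_stalk_of_app (mulMap a h) x (Proj.basicOpen 𝒜 a.1) hx fun V hV => mulMap_app_bijective a h V hV

/-- The Koszul square of two forms without common zeros. -/
theorem isKos_mulMap {i j : ℕ} (a : 𝒜 i) (b : 𝒜 j) {m m₁ m₂ m' : ℤ}
    (h₁ : m + i = m₁) (h₁' : m₁ + j = m') (h₂ : m + j = m₂) (h₂' : m₂ + i = m')
    (hab : ∀ x : Proj 𝒜, a.1 ∉ (show ProjectiveSpectrum 𝒜 from x).asHomogeneousIdeal ∨
      b.1 ∉ (show ProjectiveSpectrum 𝒜 from x).asHomogeneousIdeal) :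
    IsKos (mulMap a h₁) (mulMap b h₂) (mulMap b h₁') (mulMap a h₂') := by
  refine isKos_of_stalks (mulMap_comm a b h₁ h₁' h₂ h₂') fun x => ?_
  have w : (stalkMod x).map (mulMap a h₁) ≫ (stalkMod x).map (mulMap b h₁') =
      (stalkMod x).map (mulMap b h₂) ≫ (stalkMod x).map (mulMap a h₂') := by
    rw [← Functor.map_comp, ← Functor.map_comp, mulMap_comm a b h₁ h₁' h₂ h₂']
  rcases hab x with hx | hx
  · have i1 := isIso_stalk_mulMap a h₁ x hx
    have i2 := isIso_stalk_mulMap a h₂' x hx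
    exact isKos_of_isIso w
  · have i1 := isIso_stalk_mulMap b h₂ x hx
    have i2 := isIso_stalk_mulMap b h₁' x hx
    exact isKos_of_isIso' w

end Proj

end K697.KosPn
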