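import Groth.Agent.VBPn.K697.PtLine
import Groth.Agent.VBPn.K697.KosPn
import Groth.Agent.VBPn.K697.PullMul

/-!
# The basic block on `P^n`
-/

set_option autoImplicit false

universe u

open CategoryTheory CategoryTheory.Limits AlgebraicGeometry MvPolynomial

namespace K697.Blk

open K697.Lin K697.LinSeq K697.PtLine K697.KosPn K697.PullMul K697.Tri Groth.Agent.VarietyB.TwistMul
open Groth.Agent.Dcoh.StalkMod

variable {k : Type u} [Field k] {n m : ℕ}

/-- Multiplication by a form. -/
noncomputable def mf {i : ℕ} (a : CohB1.polyGrading n k i) {d d' : ℤ} (h : d + i = d') :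
    Twist.twistProjSpace n k d ⟶ Twist.twistProjSpace n k d' := mulMap (𝒜 := CohB1.polyGrading n k) a h

theorem mf_comp {i j l : ℕ} (a : CohB1.polyGrading n k i) (b : CohB1.polyGrading n k j)
    (c : CohB1.polyGrading n k l) (hc : c.1 = a.1 * b.1) {d d' d'' : ℤ}
    (h : d + i = d') (h' : d' + j = d'') (h'' : d + l = d'') :
    mf a h ≫ mf b h' = mf c h'' := mulMap_comp a b c hc h h' h''

theorem mf_congr {i : ℕ} (a b : CohB1.polyGrading n k i) (hab : a.1 = b.1) {d d' : ℤ} (h : d + i = d') :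
    mf a h = mf b h := mulMap_congr a b hab h

theorem mf_add {i : ℕ} (a b : CohB1.polyGrading n k i) {d d' : ℤ} (h : d + i = d') :
    mf (a + b) h = mf a h + mf b h := mulMap_add a b h

theorem mf_one (a : CohB1.polyGrading n k 0) (ha : a.1 = 1) {d : ℤ} (h : d + (0 : ℕ) = d) : mf a h = 𝟙 _ := by
  refine hom_ext_apply _ _ fun U s => ?_
  refine Subtype.ext (funext fun x => Subtype.ext ?_)
  change algebraMap _ (Twist.Loc (CohB1.polyGrading n k) x.1) a.1 * (s.1 x).1 = (s.1 x).1
  rw [ha, map_one, one_mul]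

theorem isIso_stalk_mf {i : ℕ} (a : CohB1.polyGrading n k i) {d d' : ℤ} (h : d + i = d')
    (x : CohB1.ProjSpace n k) (hx : a.1 ∉ idl x) : IsIso ((stalkMod x).map (mf a h)) :=
  isIso_stalk_mulMap a h x hx

theorem isKos_mf {i j : ℕ} (a : CohB1.polyGrading n k i) (b : CohB1.polyGrading n k j) {m m₁ m₂ m' : ℤ}
    (h₁ : m + i = m₁) (h₁' : m₁ + j = m') (h₂ : m + j = m₂) (h₂' : m₂ + i = m')
    (hab : ∀ x : CohB1.ProjSpace n k, a.1 ∉ idl x ∨ b.1 ∉ idl x) :
    IsKos (mf a h₁) (mf b h₂) (mf b h₁') (mf a h₂') := isKos_mulMap a b h₁ h₁' h₂ h₂' hab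

/-- The linear form of a vector. -/
noncomputable def lform (v : Fin (n + 1) → k) : CohB1.polyGrading n k 1 := ⟨lf v, lf_mem v⟩

/-- The square of a linear form. -/
noncomputable def qform (v : Fin (n + 1) → k) : CohB1.polyGrading n k 2 :=
  ⟨lf v * lf v, SetLike.mul_mem_graded (lf_mem v) (lf_mem v)⟩

/-- The constant form. -/
noncomputable def cform (n : ℕ) (c : k) : CohB1.polyGrading n k 0 := ⟨C c, isHomogeneous_C _ _⟩

/-- `T` is the basic block for `(w, u, v)`. -/
abbrev IsBlk (w u v : Fin (n + 1) → k) (T : Tri (Twist.twistProjSpace n k 0)) :=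
  IsBlock (O₁ := Twist.twistProjSpace n k (-1)) (O₂ := Twist.twistProjSpace n k (-2))
    (mf (qform w) (by norm_num)) (mf (lform u) (by norm_num)) (mf (lform v) (by norm_num))
    (mf (lform u) (by norm_num)) (mf (lform v) (by norm_num)) T

theorem exists_isBlk (w u v : Fin (n + 1) → k) :
    ∃ T : Tri (Twist.twistProjSpace n k 0), Nonempty (IsBlk w u v T) :=
  exists_isBlock _ (mulMap_comm (lform u) (lform v) _ _ _ _)

variable {w u v : Fin (n + 1) → k} {T : Tri (Twist.twistProjSpace n k 0)}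

/-- The block is split at the points which are not common zeros of `u` and `v`. -/
theorem isSplit_stalk (B : IsBlk w u v T) (x : CohB1.ProjSpace n k) (hx : lf u ∉ idl x ∨ lf v ∉ idl x) :
    IsSplit (T.map (stalkMod x) (Iso.refl _)) := by
  obtain ⟨B'⟩ := B.map (stalkMod x) (Iso.refl _) (Iso.refl _) (Iso.refl _)
    (q₁ := (stalkMod x).map (mf (qform w) (by norm_num)))
    (u₁' := (stalkMod x).map (mf (lform u) (by norm_num))) (v₁' := (stalkMod x).map (mf (lform v) (by norm_num)))
    (u₁ := (stalkMod x).map (mf (lform u) (by norm_num))) (v₁ := (stalkMod x).map (mf (lform v) (by norm_num)))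
    (by rw [Iso.refl_hom, Iso.refl_hom, Category.comp_id, Category.id_comp])
    (by rw [Iso.refl_hom, Iso.refl_hom, Category.comp_id, Category.id_comp])
    (by rw [Iso.refl_hom, Iso.refl_hom, Category.comp_id, Category.id_comp])
    (by rw [Iso.refl_hom, Iso.refl_hom, Category.comp_id, Category.id_comp])
    (by rw [Iso.refl_hom, Iso.refl_hom, Category.comp_id, Category.id_comp])
  have hc : mf (lform u) (show (-2 : ℤ) + (1 : ℕ) = -1 by norm_num) ≫ mf (lform v) (show (-1 : ℤ) + (1 : ℕ) = 0 by norm_num) =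
      mf (lform v) (show (-2 : ℤ) + (1 : ℕ) = -1 by norm_num) ≫ mf (lform u) (show (-1 : ℤ) + (1 : ℕ) = 0 by norm_num) :=
    mulMap_comm (lform u) (lform v) _ _ _ _
  have hw := congrArg (stalkMod x).map hc
  rw [Functor.map_comp, Functor.map_comp] at hw
  rcases hx with hx | hx
  · have i1 := isIso_stalk_mf (lform u) (show (-2 : ℤ) + (1 : ℕ) = -1 by norm_num) x hx
    have i2 := isIso_stalk_mf (lform u) (show (-1 : ℤ) + (1 : ℕ) = 0 by norm_num) x hx
    refine B'.isSplit (isKos_of_isIso hw) (inv ((stalkMod x).map (mf (lform u) (show (-2 : ℤ) + (1 : ℕ) = -1 by norm_num))) ≫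
      (stalkMod x).map (mf (qform w) (by norm_num))) 0 ?_
    rw [IsIso.hom_inv_id_assoc, comp_zero, add_zero]
  · have i1 := isIso_stalk_mf (lform v) (show (-2 : ℤ) + (1 : ℕ) = -1 by norm_num) x hx
    have i2 := isIso_stalk_mf (lform v) (show (-1 : ℤ) + (1 : ℕ) = 0 by norm_num) x hx
    refine B'.isSplit (isKos_of_isIso' hw) 0 (inv ((stalkMod x).map (mf (lform v) (show (-2 : ℤ) + (1 : ℕ) = -1 by norm_num))) ≫
      (stalkMod x).map (mf (qform w) (by norm_num))) ?_
    rw [IsIso.hom_inv_id_assoc, comp_zero, zero_add]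

/-- The stalk of the block at a point where `w` does not vanish. -/
theorem nonempty_stalk_iso (B : IsBlk w u v T) (x : CohB1.ProjSpace n k) (hx : lf w ∉ idl x) :
    Nonempty ((stalkMod x).obj T.E ≅ (stalkMod x).obj (Twist.twistProjSpace n k 0) ⊞
      (stalkMod x).obj (Twist.twistProjSpace n k 0)) := by
  obtain ⟨B'⟩ := B.map (stalkMod x) (Iso.refl _) (Iso.refl _) (Iso.refl _)
    (q₁ := (stalkMod x).map (mf (qform w) (by norm_num)))
    (u₁' := (stalkMod x).map (mf (lform u) (by norm_num))) (v₁' := (stalkMod x).map (mf (lform v) (by norm_num)))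
    (u₁ := (stalkMod x).map (mf (lform u) (by norm_num))) (v₁ := (stalkMod x).map (mf (lform v) (by norm_num)))
    (by rw [Iso.refl_hom, Iso.refl_hom, Category.comp_id, Category.id_comp])
    (by rw [Iso.refl_hom, Iso.refl_hom, Category.comp_id, Category.id_comp])
    (by rw [Iso.refl_hom, Iso.refl_hom, Category.comp_id, Category.id_comp])
    (by rw [Iso.refl_hom, Iso.refl_hom, Category.comp_id, Category.id_comp])
    (by rw [Iso.refl_hom, Iso.refl_hom, Category.comp_id, Category.id_comp])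
  have hx2 : (qform w).1 ∉ idl x := fun h => (mul_mem_idl x h).elim hx hx
  have i1 := isIso_stalk_mf (qform w) (show (-2 : ℤ) + (2 : ℕ) = 0 by norm_num) x hx2
  have i2 := isIso_stalk_mf (lform w) (show (-1 : ℤ) + (1 : ℕ) = 0 by norm_num) x hx
  obtain ⟨e⟩ := B'.nonempty_iso
  let e' := asIso ((stalkMod x).map (mf (lform w) (show (-1 : ℤ) + (1 : ℕ) = 0 by norm_num)))
  exact ⟨e ≪≫ biprod.mapIso e' e'⟩

instance additive_pullback {X Y : Scheme.{u}} (f : X ⟶ Y) : (Scheme.Modules.pullback f).Additive :=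
  (Scheme.Modules.pullbackPushforwardAdjunction f).left_adjoint_additive

instance preservesFiniteColimits_pullback {X Y : Scheme.{u}} (f : X ⟶ Y) :
    PreservesFiniteColimits (Scheme.Modules.pullback f) := by
  have : PreservesColimitsOfSize.{u, u} (Scheme.Modules.pullback f) :=
    (Scheme.Modules.pullbackPushforwardAdjunction f).leftAdjoint_preservesColimits
  exact PreservesColimitsOfSize.preservesFiniteColimits _

/-- Restriction of the block to a linear subspace. -/
theorem isBlk_rest (B : IsBlk w u v T) (A : (Fin (n + 1) → k) →ₗ[k] (Fin (m + 1) → k)) (hA : Function.Surjective A) :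
    Nonempty (IsBlk (A w) (A u) (A v) (T.map (Scheme.Modules.pullback (emb A hA)) (pullTw A hA 0))) := by
  have hl : ∀ (v : Fin (n + 1) → k), (im (gr A) (lform v)).1 = (lform (A v)).1 := fun v => by
    change gr A (lf v) = lf (A v)
    rw [gr_apply, subst_lf]
  have hq : ∀ (v : Fin (n + 1) → k), (im (gr A) (qform v)).1 = (qform (A v)).1 := fun v => by
    change gr A (lf v * lf v) = lf (A v) * lf (A v)
    rw [map_mul, gr_apply, subst_lf]
  have hml : ∀ (v : Fin (n + 1) → k) {d d' : ℤ} (h : d + (1 : ℕ) = d'),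
      (Scheme.Modules.pullback (emb A hA)).map (mf (lform v) h) ≫ (pullTw A hA d').hom =
        (pullTw A hA d).hom ≫ mf (lform (A v)) h := by
    intro v d d' h
    exact (restE_mulMap A hA (lform v) h).trans (congrArg (fun z => (pullTw A hA d).hom ≫ z) (mf_congr _ _ (hl v) h))
  have hmq : ∀ (v : Fin (n + 1) → k) {d d' : ℤ} (h : d + (2 : ℕ) = d'),
      (Scheme.Modules.pullback (emb A hA)).map (mf (qform v) h) ≫ (pullTw A hA d').hom =
        (pullTw A hA d).hom ≫ mf (qform (A v)) h := by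
    intro v d d' h
    exact (restE_mulMap A hA (qform v) h).trans (congrArg (fun z => (pullTw A hA d).hom ≫ z) (mf_congr _ _ (hq v) h))
  exact B.map (Scheme.Modules.pullback (emb A hA)) (pullTw A hA 0) (pullTw A hA (-1)) (pullTw A hA (-2))
    (hmq w _) (hml u _) (hml v _) (hml u _) (hml v _)

/-- The block is split if `u`, `v` have no common zeros and `w` is a combination of `u` and `v`. -/
theorem isSplit_of_comb (B : IsBlk w u v T) (huv : ∀ x : CohB1.ProjSpace n k, lf u ∉ idl x ∨ lf v ∉ idl x)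
    (α β : k) (hw : w = α • u + β • v) : IsSplit T := by
  refine B.isSplit (isKos_mf (lform u) (lform v) _ _ _ _ huv) (mf (lform (α • w)) (by norm_num))
    (mf (lform (β • w)) (by norm_num)) ?_
  have h1 : mf (lform u) (show (-2 : ℤ) + (1 : ℕ) = -1 by norm_num) ≫ mf (lform (α • w)) (show (-1 : ℤ) + (1 : ℕ) = 0 by norm_num) =
      mf (⟨lf u * lf (α • w), SetLike.mul_mem_graded (lf_mem u) (lf_mem _)⟩ : CohB1.polyGrading n k (1 + 1))
        (show (-2 : ℤ) + (1 + 1 : ℕ) = 0 by norm_num) := mf_comp _ _ _ rfl _ _ _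
  have h2 : mf (lform v) (show (-2 : ℤ) + (1 : ℕ) = -1 by norm_num) ≫ mf (lform (β • w)) (show (-1 : ℤ) + (1 : ℕ) = 0 by norm_num) =
      mf (⟨lf v * lf (β • w), SetLike.mul_mem_graded (lf_mem v) (lf_mem _)⟩ : CohB1.polyGrading n k (1 + 1))
        (show (-2 : ℤ) + (1 + 1 : ℕ) = 0 by norm_num) := mf_comp _ _ _ rfl _ _ _
  rw [h1, h2, ← mf_add]
  refine mf_congr _ _ ?_ _
  change lf w * lf w = lf u * lf (α • w) + lf v * lf (β • w)
  rw [lf_smul, lf_smul]
  conv_lhs => rw [hw, lf_add, lf_smul, lf_smul]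
  conv_lhs => rw [← lf_smul, ← lf_smul, ← lf_add, ← hw]
  have h3 : lf w = C α * lf u + C β * lf v := by rw [hw, lf_add, lf_smul, lf_smul]
  calc lf w * lf w = (C α * lf u + C β * lf v) * lf w := by rw [← h3]
    _ = _ := by ring

/-- The block is standard if `u`, `v` are multiples of a form without common zeros with `w`. -/
theorem equiv_std_of_mul (B : IsBlk w u v T) (h : Fin (n + 1) → k) (α β γ δ : k) (hu : u = α • h) (hv : v = β • h)
    (h1 : α * γ + β * δ = 1) (hwh : ∀ x : CohB1.ProjSpace n k, lf w ∉ idl x ∨ lf h ∉ idl x) :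
    Tri.Equiv T (std (B := Twist.twistProjSpace n k 1) (B' := Twist.twistProjSpace n k (-1))
      (mf (lform h) (by norm_num)) (mf (lform h) (by norm_num))) := by
  have hcc : ∀ (a b : k), mf (cform n a) (show (-1 : ℤ) + (0 : ℕ) = -1 by norm_num) ≫
      mf (cform n b) (show (-1 : ℤ) + (0 : ℕ) = -1 by norm_num) = mf (cform n (a * b)) (by norm_num) :=
    fun a b => mf_comp _ _ _ (map_mul C a b) _ _ _
  have hcomm : ∀ (a b : k), mf (cform n a) (show (-1 : ℤ) + (0 : ℕ) = -1 by norm_num) ≫
      mf (cform n b) (show (-1 : ℤ) + (0 : ℕ) = -1 by norm_num) = mf (cform n b) (show (-1 : ℤ) + (0 : ℕ) = -1 by norm_num) ≫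
      mf (cform n a) (show (-1 : ℤ) + (0 : ℕ) = -1 by norm_num) := fun a b => by
    rw [hcc, hcc, mul_comm]
  have hlc : ∀ (a : k), (lform (a • h)).1 = (lform h).1 * (cform n a).1 := fun a => by
    change lf (a • h) = lf h * C a
    rw [lf_smul, mul_comm]
  have hcl : ∀ (a : k), (lform (a • h)).1 = (cform n a).1 * (lform h).1 := fun a => by
    change lf (a • h) = C a * lf h
    rw [lf_smul]
  refine B.equiv_std (H := mf (lform h) (by norm_num)) (Q := mf (qform w) (by norm_num)) (h := mf (lform h) (by norm_num))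
    (h' := mf (lform h) (by norm_num)) (isKos_mf (qform w) (lform h) _ _ _ _ ?_)
    (α := mf (cform n α) (by norm_num)) (β := mf (cform n β) (by norm_num)) (γ := mf (cform n γ) (by norm_num))
    (δ := mf (cform n δ) (by norm_num)) ?_ ?_ ?_ ?_ ?_ (hcomm _ _) (hcomm _ _) (hcomm _ _) (hcomm _ _) (hcomm _ _)
    (hcomm _ _)
  · intro x
    rcases hwh x with h | h
    · exact Or.inl fun h' => (mul_mem_idl x h').elim h h
    · exact Or.inr h
  · subst hu
    exact (mf_comp _ _ _ (hlc α) _ _ _).symm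
  · subst hv
    exact (mf_comp _ _ _ (hlc β) _ _ _).symm
  · subst hu
    exact (mf_comp _ _ _ (hcl α) _ _ _).symm
  · subst hv
    exact (mf_comp _ _ _ (hcl β) _ _ _).symm
  · rw [hcc, hcc, ← mf_add]
    refine mf_one _ ?_ _
    change C (α * γ) + C (β * δ) = 1
    rw [← C_add, h1, C_1]

end K697.Blk
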