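import Groth.Agent.VBPn.K697.Point

/-!
# Points and lines of the projective plane
-/

set_option autoImplicit false

universe u

open CategoryTheory CategoryTheory.Limits AlgebraicGeometry MvPolynomial

namespace K697.PtLine

open K697.Lin K697.LinSeq K697.LinClass K697.Point K699.TwHom

variable {k : Type u} [Field k] {n m : ℕ}

/-- The homogeneous prime ideal of a point of `P^n`. -/
noncomputable abbrev idl (x : CohB1.ProjSpace n k) : HomogeneousIdeal (CohB1.polyGrading n k) :=
  (show ProjectiveSpectrum (CohB1.polyGrading n k) from x).asHomogeneousIdeal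

theorem mul_mem_idl (x : CohB1.ProjSpace n k) {a b : MvPolynomial (Fin (n + 1)) k} (h : a * b ∈ idl x) :
    a ∈ idl x ∨ b ∈ idl x :=
  (show ProjectiveSpectrum (CohB1.polyGrading n k) from x).isPrime.mem_or_mem h

theorem one_notMem_idl (x : CohB1.ProjSpace n k) : (1 : MvPolynomial (Fin (n + 1)) k) ∉ idl x := fun h =>
  (show ProjectiveSpectrum (CohB1.polyGrading n k) from x).isPrime.ne_top ((Ideal.eq_top_iff_one _).mpr h)

theorem C_mul_mem {x : CohB1.ProjSpace n k} {a : MvPolynomial (Fin (n + 1)) k} (c : k) (h : a ∈ idl x) :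
    C c * a ∈ idl x := Ideal.mul_mem_left _ _ h

theorem add_mem_idl {x : CohB1.ProjSpace n k} {a b : MvPolynomial (Fin (n + 1)) k} (h : a ∈ idl x) (h' : b ∈ idl x) :
    a + b ∈ idl x := Ideal.add_mem _ h h'

/-- The form vanishes at the image point iff the restricted form vanishes. -/
theorem mem_idl_emb {A : (Fin (n + 1) → k) →ₗ[k] (Fin (m + 1) → k)} (hA : Function.Surjective A)
    (z : CohB1.ProjSpace m k) (a : MvPolynomial (Fin (n + 1)) k) :
    a ∈ idl (emb A hA z) ↔ gr A a ∈ idl z := Iff.rfl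

theorem lf_mem_idl_emb {A : (Fin (n + 1) → k) →ₗ[k] (Fin (m + 1) → k)} (hA : Function.Surjective A)
    (z : CohB1.ProjSpace m k) (v : Fin (n + 1) → k) :
    lf v ∈ idl (emb A hA z) ↔ lf (A v) ∈ idl z := by
  rw [mem_idl_emb, gr_apply, subst_lf]

/-- The kernel of the substitution is generated by the linear forms in the kernel. -/
theorem subst_eq_zero_mem {A : (Fin (n + 1) → k) →ₗ[k] (Fin (m + 1) → k)} (hA : Function.Surjective A)
    (I : Ideal (MvPolynomial (Fin (n + 1)) k)) (hI : ∀ c, A c = 0 → lf c ∈ I) (p : MvPolynomial (Fin (n + 1)) k)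
    (hp : subst A p = 0) : p ∈ I := by
  obtain ⟨σ, hσ⟩ := A.exists_rightInverse_of_surjective (LinearMap.range_eq_top.mpr hA)
  have key : (Ideal.Quotient.mkₐ k I) = (Ideal.Quotient.mkₐ k I).comp ((subst σ).comp (subst A)) := by
    apply MvPolynomial.algHom_ext
    intro i
    rw [AlgHom.comp_apply, AlgHom.comp_apply, subst_X, subst_lf]
    refine (Ideal.Quotient.eq (I := I)).mpr ?_
    have h1 : A ((Pi.single i (1 : k) : Fin (n + 1) → k) - σ (A (Pi.single i 1))) = 0 := by
      rw [map_sub, sub_eq_zero]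
      exact (congrArg (fun f => f (A (Pi.single i 1))) hσ).symm
    have h2 : X i - lf (σ (A (Pi.single i 1))) = lf ((Pi.single i (1 : k) : Fin (n + 1) → k) - σ (A (Pi.single i 1))) := by
      rw [← lf_single (k := k) i]
      exact (map_sub lfL _ _).symm
    rw [h2]
    exact hI _ h1
  have h3 : Ideal.Quotient.mkₐ k I p = 0 := by
    rw [key, AlgHom.comp_apply, AlgHom.comp_apply, hp, map_zero, map_zero]
  exact Ideal.Quotient.eq_zero_iff_mem.mp h3

theorem mem_range_emb {A : (Fin (n + 1) → k) →ₗ[k] (Fin (m + 1) → k)} (hA : Function.Surjective A)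
    (x : CohB1.ProjSpace n k) (h : ∀ c, A c = 0 → lf c ∈ idl x) : x ∈ Set.range (emb A hA) := by
  refine (Groth.Agent.Sga5.ProjSurj.mem_range_map_iff (f := gr A)
    (hf := Groth.Agent.Sga5.ProjSurj.irrelevant_le_map (degSurj hA)) (degSurj hA) x).mpr ?_
  intro p hp
  exact subst_eq_zero_mem hA (idl x).toIdeal h p hp

/-- On `P^0` the linear form of a nonzero vector does not vanish. -/
theorem lf_notMem_P0 (y : CohB1.ProjSpace 0 k) (v : Fin (0 + 1) → k) (h : lf v ∈ idl y) : v = 0 := by
  by_contra hv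
  have h0 : v 0 ≠ 0 := by
    intro h0
    apply hv
    funext i
    have : i = 0 := Fin.ext (by omega)
    rw [this, h0]
    rfl
  have h1 : lf v = C (v 0) * X 0 := by
    unfold lf
    exact Fin.sum_univ_one _
  have h2 : X 0 ∈ idl y := by
    have h3 : C (v 0)⁻¹ * lf v ∈ idl y := C_mul_mem _ h
    rwa [h1, ← mul_assoc, ← C_mul, inv_mul_cancel₀ h0, C_1, one_mul] at h3
  exact X_notMem y h2

/-- Membership in the ideal of a linear point. -/
theorem lf_mem_point {B : (Fin (n + 1) → k) →ₗ[k] (Fin (0 + 1) → k)} (hB : Function.Surjective B)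
    (y : CohB1.ProjSpace 0 k) (v : Fin (n + 1) → k) : lf v ∈ idl (emb B hB y) ↔ B v = 0 := by
  rw [lf_mem_idl_emb]
  constructor
  · exact lf_notMem_P0 y _
  · intro h
    rw [h, lf_zero]
    exact Ideal.zero_mem _

variable [IsAlgClosed k]

/-- A closed point of `P^2` is cut out by two linear forms. -/
theorem exists_frame (x : CohB1.ProjSpace 2 k) (hx : IsClosed ({x} : Set (CohB1.ProjSpace 2 k))) :
    ∃ u v w : Fin (2 + 1) → k, lf u ∈ idl x ∧ lf v ∈ idl x ∧ lf w ∉ idl x ∧
      (∀ y : CohB1.ProjSpace 2 k, lf u ∈ idl y → lf v ∈ idl y → y = x) ∧ LinearIndependent k ![u, v] := by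
  obtain ⟨B, hB, h⟩ := exists_point x hx
  let y₀ : CohB1.ProjSpace 0 k := Groth.Agent.Sga5.ProjConn.genPt 0 k
  have hx0 := h y₀
  have hdim : Module.finrank k (LinearMap.ker B) = 2 := by
    have h1 := B.finrank_range_add_finrank_ker
    rw [LinearMap.range_eq_top.mpr hB, finrank_top, Module.finrank_fin_fun, Module.finrank_fin_fun] at h1
    omega
  let b : Module.Basis (Fin 2) k (LinearMap.ker B) := Module.finBasisOfFinrankEq k _ hdim
  obtain ⟨w, hw⟩ := hB (fun _ => 1)
  refine ⟨(b 0).1, (b 1).1, w, ?_, ?_, ?_, ?_, ?_⟩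
  · rw [← hx0]
    exact (lf_mem_point hB y₀ _).mpr (b 0).2
  · rw [← hx0]
    exact (lf_mem_point hB y₀ _).mpr (b 1).2
  · rw [← hx0, lf_mem_point hB y₀, hw]
    intro h
    exact one_ne_zero (congrFun h 0)
  · intro y hu hv
    have h1 : y ∈ Set.range (emb B hB) := by
      refine mem_range_emb hB y fun c hc => ?_
      have h2 := b.sum_repr ⟨c, hc⟩
      rw [Fin.sum_univ_two] at h2
      have h3 := congrArg Subtype.val h2
      change (b.repr ⟨c, hc⟩ 0) • (b 0).1 + (b.repr ⟨c, hc⟩ 1) • (b 1).1 = c at h3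
      rw [← h3, lf_add, lf_smul, lf_smul]
      exact add_mem_idl (C_mul_mem _ hu) (C_mul_mem _ hv)
    obtain ⟨z, rfl⟩ := h1
    exact h z
  · have h1 : LinearIndependent k fun i => ((b i : LinearMap.ker B) : Fin (2 + 1) → k) :=
      b.linearIndependent.map' (LinearMap.ker B).subtype (Submodule.ker_subtype _)
    convert h1 using 1
    funext i
    fin_cases i <;> rfl

/-- A point on the line: the two forms restrict to multiples of one linear form. -/
theorem exists_of_mem {A : (Fin (2 + 1) → k) →ₗ[k] (Fin (1 + 1) → k)} (hA : Function.Surjective A)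
    {x : CohB1.ProjSpace 2 k} (hx : IsClosed ({x} : Set (CohB1.ProjSpace 2 k))) (hxA : x ∈ Set.range (emb A hA))
    {u v : Fin (2 + 1) → k} (hu : lf u ∈ idl x) (hv : lf v ∈ idl x) (hli : LinearIndependent k ![u, v]) :
    ∃ (h : Fin (1 + 1) → k) (α β γ δ : k), A u = α • h ∧ A v = β • h ∧ α * γ + β * δ = 1 := by
  obtain ⟨z, hz⟩ := hxA
  have hzc : IsClosed ({z} : Set (CohB1.ProjSpace 1 k)) := by
    have h1 : ({z} : Set (CohB1.ProjSpace 1 k)) = emb A hA ⁻¹' {x} := by
      ext z'
      rw [Set.mem_singleton_iff, Set.mem_preimage, Set.mem_singleton_iff]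
      constructor
      · rintro rfl
        exact hz
      · intro h2
        exact (emb A hA).isClosedEmbedding.injective (h2.trans hz.symm)
    rw [h1]
    exact hx.preimage (emb A hA).continuous
  obtain ⟨B, hB, h⟩ := exists_point z hzc
  let y₀ : CohB1.ProjSpace 0 k := Groth.Agent.Sga5.ProjConn.genPt 0 k
  have hz0 := h y₀
  have hBu : B (A u) = 0 := by
    rw [← lf_mem_point hB y₀, hz0, ← lf_mem_idl_emb hA, hz]
    exact hu
  have hBv : B (A v) = 0 := by
    rw [← lf_mem_point hB y₀, hz0, ← lf_mem_idl_emb hA, hz]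
    exact hv
  have hdim : Module.finrank k (LinearMap.ker B) = 1 := by
    have h1 := B.finrank_range_add_finrank_ker
    rw [LinearMap.range_eq_top.mpr hB, finrank_top, Module.finrank_fin_fun, Module.finrank_fin_fun] at h1
    omega
  obtain ⟨h', h0, hspan⟩ := finrank_eq_one_iff'.mp hdim
  obtain ⟨α, hα⟩ := hspan ⟨A u, hBu⟩
  obtain ⟨β, hβ⟩ := hspan ⟨A v, hBv⟩
  have hα' : A u = α • h'.1 := (congrArg Subtype.val hα).symm
  have hβ' : A v = β • h'.1 := (congrArg Subtype.val hβ).symm
  have hne : ¬ (α = 0 ∧ β = 0) := by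
    rintro ⟨rfl, rfl⟩
    rw [zero_smul] at hα' hβ'
    have hker : Module.finrank k (LinearMap.ker A) = 1 := by
      have h1 := A.finrank_range_add_finrank_ker
      rw [LinearMap.range_eq_top.mpr hA, finrank_top, Module.finrank_fin_fun, Module.finrank_fin_fun] at h1
      omega
    have hle : Submodule.span k (Set.range ![u, v]) ≤ LinearMap.ker A := by
      rw [Submodule.span_le]
      rintro _ ⟨i, rfl⟩
      fin_cases i
      · exact hα'
      · exact hβ'
    have h2 := Submodule.finrank_mono hle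
    rw [finrank_span_eq_card hli, hker] at h2
    simp at h2
  by_cases hα0 : α = 0
  · have hβ0 : β ≠ 0 := fun h => hne ⟨hα0, h⟩
    exact ⟨h'.1, α, β, 0, β⁻¹, hα', hβ', by rw [mul_inv_cancel₀ hβ0, mul_zero, zero_add]⟩
  · exact ⟨h'.1, α, β, α⁻¹, 0, hα', hβ', by rw [mul_inv_cancel₀ hα0, mul_zero, add_zero]⟩

/-- A point not on the line: the third form restricts to a combination of the first two. -/
theorem exists_of_notMem {A : (Fin (2 + 1) → k) →ₗ[k] (Fin (1 + 1) → k)} (hA : Function.Surjective A)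
    {u v : Fin (2 + 1) → k} (h : ∀ z : CohB1.ProjSpace 1 k, ¬ (lf (A u) ∈ idl z ∧ lf (A v) ∈ idl z))
    (w : Fin (2 + 1) → k) : ∃ α β : k, A w = α • A u + β • A v := by
  have htop : Submodule.span k (Set.range ![A u, A v]) = ⊤ := by
    by_contra hne
    obtain ⟨f, hf0, hf⟩ := (Submodule.span k (Set.range ![A u, A v])).exists_le_ker_of_lt_top (lt_top_iff_ne_top.mpr hne)
    let B : (Fin (1 + 1) → k) →ₗ[k] (Fin (0 + 1) → k) := LinearMap.pi fun _ => f
    have hB : Function.Surjective B := by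
      intro c
      obtain ⟨w, hw⟩ := LinearMap.surjective hf0 (c 0)
      refine ⟨w, funext fun j => ?_⟩
      have hj : j = 0 := Fin.ext (by omega)
      rw [hj]
      exact hw
    let y₀ : CohB1.ProjSpace 0 k := Groth.Agent.Sga5.ProjConn.genPt 0 k
    refine h (emb B hB y₀) ⟨?_, ?_⟩
    · rw [lf_mem_point]
      funext j
      exact hf (Submodule.subset_span ⟨0, rfl⟩)
    · rw [lf_mem_point]
      funext j
      exact hf (Submodule.subset_span ⟨1, rfl⟩)
  have h1 : A w ∈ Submodule.span k (Set.range ![A u, A v]) := by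
    rw [htop]
    trivial
  rw [Matrix.range_cons, Matrix.range_cons, Matrix.range_empty, Set.union_empty] at h1
  obtain ⟨α, β, h2⟩ := Submodule.mem_span_pair.mp (show A w ∈ Submodule.span k {A u, A v} from h1)
  exact ⟨α, β, h2.symm⟩

end K697.PtLine
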