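import Mathlib.CategoryTheory.Abelian.Exact
import Mathlib.Algebra.Homology.ShortComplex.ShortExact
import Mathlib.Algebra.Homology.ShortComplex.ExactFunctor
import Mathlib.CategoryTheory.Limits.Preserves.Shapes.Biproducts
import Mathlib.CategoryTheory.Preadditive.AdditiveFunctor

/-!
# Sums of triples `O → E → O`

A triple is an object `E` with maps `s : O ⟶ E`, `p : E ⟶ O` and `s ≫ p = 0`. The sum of two triples is the
homology of `O → E₁ ⊞ E₂ → O`.
-/

set_option autoImplicit false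
set_option linter.dupNamespace false

universe v v' w w'

open CategoryTheory CategoryTheory.Limits

namespace K697.Tri

variable {C : Type w} [Category.{v} C] [Abelian C] {D : Type w'} [Category.{v'} D] [Abelian D]

/-- An object with a section and a cosection whose composite is zero. -/
structure Tri (O : C) where
  /-- the object -/
  E : C
  /-- the section -/
  s : O ⟶ E
  /-- the cosection -/
  p : E ⟶ O
  w : s ≫ p = 0

variable {O : C}

/-- Isomorphic triples. -/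
def Equiv (T T' : Tri O) : Prop := ∃ e : T.E ≅ T'.E, T.s ≫ e.hom = T'.s ∧ e.hom ≫ T'.p = T.p

theorem Equiv.refl (T : Tri O) : Equiv T T := ⟨Iso.refl _, Category.comp_id _, Category.id_comp _⟩

theorem Equiv.symm {T T' : Tri O} (h : Equiv T T') : Equiv T' T := by
  obtain ⟨e, h1, h2⟩ := h
  refine ⟨e.symm, ?_, ?_⟩
  · rw [← h1, Category.assoc, Iso.symm_hom, Iso.hom_inv_id, Category.comp_id]
  · rw [← h2, Iso.symm_hom, Iso.inv_hom_id_assoc]

theorem Equiv.trans {T T' T'' : Tri O} (h : Equiv T T') (h' : Equiv T' T'') : Equiv T T'' := by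
  obtain ⟨e, h1, h2⟩ := h
  obtain ⟨e', h1', h2'⟩ := h'
  refine ⟨e ≪≫ e', ?_, ?_⟩
  · rw [Iso.trans_hom, ← Category.assoc, h1, h1']
  · rw [Iso.trans_hom, Category.assoc, h2', h2]

/-- A split triple: `E ≅ O ⊞ O`. -/
def IsSplit (T : Tri O) : Prop :=
  ∃ (σ : O ⟶ T.E) (ρ : T.E ⟶ O), T.s ≫ ρ = 𝟙 _ ∧ σ ≫ T.p = 𝟙 _ ∧ ρ ≫ T.s + T.p ≫ σ = 𝟙 _

theorem IsSplit.of_equiv {T T' : Tri O} (h : IsSplit T) (h' : Equiv T T') : IsSplit T' := by
  obtain ⟨σ, ρ, h1, h2, h3⟩ := h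
  obtain ⟨e, h4, h5⟩ := h'
  refine ⟨σ ≫ e.hom, e.inv ≫ ρ, ?_, ?_, ?_⟩
  · rw [← h4, Category.assoc, Iso.hom_inv_id_assoc, h1]
  · rw [Category.assoc, h5, h2]
  · have h6 : T'.p = e.inv ≫ T.p := by rw [← h5, Iso.inv_hom_id_assoc]
    rw [← h4, h6]
    calc (e.inv ≫ ρ) ≫ T.s ≫ e.hom + (e.inv ≫ T.p) ≫ σ ≫ e.hom
        = e.inv ≫ (ρ ≫ T.s + T.p ≫ σ) ≫ e.hom := by
          simp only [Category.assoc, Preadditive.comp_add, Preadditive.add_comp]
      _ = 𝟙 _ := by rw [h3, Category.id_comp, Iso.inv_hom_id]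

/-- Two split triples are isomorphic. -/
theorem equiv_of_isSplit {T T' : Tri O} (h : IsSplit T) (h' : IsSplit T') : Equiv T T' := by
  obtain ⟨σ, ρ, h1, h2, h3⟩ := h
  obtain ⟨σ', ρ', h1', h2', h3'⟩ := h'
  have key : ∀ {T : Tri O} {σ : O ⟶ T.E} {ρ : T.E ⟶ O}, T.s ≫ ρ = 𝟙 _ → σ ≫ T.p = 𝟙 _ →
      ρ ≫ T.s + T.p ≫ σ = 𝟙 _ → σ ≫ ρ = 0 := by
    intro T σ ρ h1 h2 h3
    have h4 : σ ≫ (ρ ≫ T.s + T.p ≫ σ) = σ := by rw [h3, Category.comp_id]
    rw [Preadditive.comp_add, ← Category.assoc σ T.p, h2, Category.id_comp, add_eq_right] at h4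
    have h5 : (σ ≫ ρ ≫ T.s) ≫ ρ = 0 := by rw [h4, zero_comp]
    rwa [Category.assoc, Category.assoc, h1, Category.comp_id] at h5
  have k1 := key h1 h2 h3
  have k2 := key h1' h2' h3'
  refine ⟨⟨ρ ≫ T'.s + T.p ≫ σ', ρ' ≫ T.s + T'.p ≫ σ, ?_, ?_⟩, ?_, ?_⟩
  · calc (ρ ≫ T'.s + T.p ≫ σ') ≫ (ρ' ≫ T.s + T'.p ≫ σ)
        = ρ ≫ (T'.s ≫ ρ') ≫ T.s + ρ ≫ (T'.s ≫ T'.p) ≫ σ + (T.p ≫ (σ' ≫ ρ') ≫ T.s + T.p ≫ (σ' ≫ T'.p) ≫ σ) := by
          simp only [Category.assoc, Preadditive.comp_add, Preadditive.add_comp]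
          abel
      _ = 𝟙 _ := by
          rw [h1', T'.w, k2, h2', zero_comp, zero_comp, comp_zero, comp_zero, Category.id_comp, Category.id_comp,
            add_zero, zero_add, h3]
  · calc (ρ' ≫ T.s + T'.p ≫ σ) ≫ (ρ ≫ T'.s + T.p ≫ σ')
        = ρ' ≫ (T.s ≫ ρ) ≫ T'.s + ρ' ≫ (T.s ≫ T.p) ≫ σ' + (T'.p ≫ (σ ≫ ρ) ≫ T'.s + T'.p ≫ (σ ≫ T.p) ≫ σ') := by
          simp only [Category.assoc, Preadditive.comp_add, Preadditive.add_comp]
          abel
      _ = 𝟙 _ := by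
          rw [h1, T.w, k1, h2, zero_comp, zero_comp, comp_zero, comp_zero, Category.id_comp, Category.id_comp,
            add_zero, zero_add, h3']
  · dsimp only
    rw [Preadditive.comp_add, ← Category.assoc, h1, Category.id_comp, ← Category.assoc, T.w, zero_comp, add_zero]
  · dsimp only
    rw [Preadditive.add_comp, Category.assoc, T'.w, comp_zero, zero_add, Category.assoc, h2', Category.comp_id]

/-- `T` is the sum of `T₁` and `T₂`. -/
structure IsSum (T₁ T₂ T : Tri O) where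
  K : C
  k₁ : K ⟶ T₁.E
  k₂ : K ⟶ T₂.E
  j : O ⟶ K
  q : K ⟶ T.E
  t : O ⟶ K
  wk : biprod.lift k₁ k₂ ≫ biprod.desc T₁.p (-T₂.p) = 0
  ek : (ShortComplex.mk (biprod.lift k₁ k₂) (biprod.desc T₁.p (-T₂.p)) wk).ShortExact
  wj : j ≫ q = 0
  ej : (ShortComplex.mk j q wj).ShortExact
  jk₁ : j ≫ k₁ = T₁.s
  jk₂ : j ≫ k₂ = -T₂.s
  qp : q ≫ T.p = k₁ ≫ T₁.p
  tk₁ : t ≫ k₁ = T₁.s
  tk₂ : t ≫ k₂ = 0
  tq : t ≫ q = T.s

theorem exists_isSum (T₁ T₂ : Tri O) (h₁ : Epi (biprod.desc T₁.p (-T₂.p)))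
    (h₂ : Mono (biprod.lift T₁.s (-T₂.s))) : ∃ T : Tri O, Nonempty (IsSum T₁ T₂ T) := by
  let g : T₁.E ⊞ T₂.E ⟶ O := biprod.desc T₁.p (-T₂.p)
  have hj : biprod.lift T₁.s (-T₂.s) ≫ g = 0 := by
    rw [biprod.lift_desc, T₁.w, Preadditive.neg_comp, Preadditive.comp_neg, T₂.w, neg_zero, neg_zero, add_zero]
  have ht : biprod.lift T₁.s 0 ≫ g = 0 := by
    rw [biprod.lift_desc, T₁.w, zero_comp, add_zero]
  let K := kernel g
  let j : O ⟶ K := kernel.lift g (biprod.lift T₁.s (-T₂.s)) hj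
  let t : O ⟶ K := kernel.lift g (biprod.lift T₁.s 0) ht
  have hjι : j ≫ kernel.ι g = biprod.lift T₁.s (-T₂.s) := kernel.lift_ι _ _ _
  have htι : t ≫ kernel.ι g = biprod.lift T₁.s 0 := kernel.lift_ι _ _ _
  have hjm : Mono j := by
    have : Mono (j ≫ kernel.ι g) := by rw [hjι]; exact h₂
    exact mono_of_mono j (kernel.ι g)
  have hjp : j ≫ kernel.ι g ≫ biprod.fst ≫ T₁.p = 0 := by
    rw [← Category.assoc, hjι, ← Category.assoc, biprod.lift_fst, T₁.w]
  let T : Tri O :=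
    { E := cokernel j
      s := t ≫ cokernel.π j
      p := cokernel.desc j (kernel.ι g ≫ biprod.fst ≫ T₁.p) hjp
      w := by
        rw [Category.assoc, cokernel.π_desc, ← Category.assoc, htι, ← Category.assoc, biprod.lift_fst, T₁.w] }
  have hlift : biprod.lift (kernel.ι g ≫ biprod.fst) (kernel.ι g ≫ biprod.snd) = kernel.ι g := by
    apply biprod.hom_ext
    · rw [biprod.lift_fst]
    · rw [biprod.lift_snd]
  refine ⟨T, ⟨⟨K, kernel.ι g ≫ biprod.fst, kernel.ι g ≫ biprod.snd, j, cokernel.π j, t, ?_, ?_, ?_, ?_, ?_, ?_, ?_,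
    ?_, ?_, ?_⟩⟩⟩
  · rw [hlift]
    exact kernel.condition g
  · have h3 : (ShortComplex.mk (kernel.ι g) g (kernel.condition g)).ShortExact :=
      { exact := ShortComplex.exact_kernel g
        mono_f := inferInstance
        epi_g := h₁ }
    convert h3 using 2
  · exact cokernel.condition j
  · exact { exact := ShortComplex.exact_cokernel j
            mono_f := hjm
            epi_g := inferInstance }
  · rw [← Category.assoc, hjι, biprod.lift_fst]
  · rw [← Category.assoc, hjι, biprod.lift_snd]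
  · rw [Category.assoc]
    exact cokernel.π_desc _ _ _
  · rw [← Category.assoc, htι, biprod.lift_fst]
  · rw [← Category.assoc, htι, biprod.lift_snd]
  · rfl

variable {T₁ T₂ T T' : Tri O}

/-- The sum is unique up to isomorphism. -/
theorem IsSum.unique (h : IsSum T₁ T₂ T) (h' : IsSum T₁ T₂ T') : Equiv T T' := by
  have m1 : Mono (biprod.lift h.k₁ h.k₂) := h.ek.mono_f
  have m2 : Mono (biprod.lift h'.k₁ h'.k₂) := h'.ek.mono_f
  let φ : h.K ⟶ h'.K := h'.ek.fIsKernel.lift (KernelFork.ofι (biprod.lift h.k₁ h.k₂) h.wk)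
  have hφ : φ ≫ biprod.lift h'.k₁ h'.k₂ = biprod.lift h.k₁ h.k₂ :=
    h'.ek.fIsKernel.fac (KernelFork.ofι (biprod.lift h.k₁ h.k₂) h.wk) WalkingParallelPair.zero
  let ψ : h'.K ⟶ h.K := h.ek.fIsKernel.lift (KernelFork.ofι (biprod.lift h'.k₁ h'.k₂) h'.wk)
  have hψ : ψ ≫ biprod.lift h.k₁ h.k₂ = biprod.lift h'.k₁ h'.k₂ :=
    h.ek.fIsKernel.fac (KernelFork.ofι (biprod.lift h'.k₁ h'.k₂) h'.wk) WalkingParallelPair.zero
  have hφψ : φ ≫ ψ = 𝟙 _ := by
    rw [← cancel_mono (biprod.lift h.k₁ h.k₂), Category.assoc, hψ, hφ, Category.id_comp]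
  have hψφ : ψ ≫ φ = 𝟙 _ := by
    rw [← cancel_mono (biprod.lift h'.k₁ h'.k₂), Category.assoc, hφ, hψ, Category.id_comp]
  have hφ1 : φ ≫ h'.k₁ = h.k₁ := by
    have := congrArg (· ≫ biprod.fst) hφ
    simpa using this
  have hφ2 : φ ≫ h'.k₂ = h.k₂ := by
    have := congrArg (· ≫ biprod.snd) hφ
    simpa using this
  have hj : h.j ≫ φ = h'.j := by
    rw [← cancel_mono (biprod.lift h'.k₁ h'.k₂), Category.assoc, hφ]
    apply biprod.hom_ext
    · simp [h.jk₁, h'.jk₁]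
    · simp [h.jk₂, h'.jk₂]
  have ht : h.t ≫ φ = h'.t := by
    rw [← cancel_mono (biprod.lift h'.k₁ h'.k₂), Category.assoc, hφ]
    apply biprod.hom_ext
    · simp [h.tk₁, h'.tk₁]
    · simp [h.tk₂, h'.tk₂]
  have hj' : h'.j ≫ ψ = h.j := by rw [← hj, Category.assoc, hφψ, Category.comp_id]
  have hjq : h.j ≫ φ ≫ h'.q = 0 := by rw [← Category.assoc, hj, h'.wj]
  have hjq' : h'.j ≫ ψ ≫ h.q = 0 := by rw [← Category.assoc, hj', h.wj]
  have e1 : Epi h.q := h.ej.epi_g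
  have e2 : Epi h'.q := h'.ej.epi_g
  let a : T.E ⟶ T'.E := h.ej.gIsCokernel.desc (CokernelCofork.ofπ (φ ≫ h'.q) hjq)
  have ha : h.q ≫ a = φ ≫ h'.q :=
    h.ej.gIsCokernel.fac (CokernelCofork.ofπ (φ ≫ h'.q) hjq) WalkingParallelPair.one
  let b : T'.E ⟶ T.E := h'.ej.gIsCokernel.desc (CokernelCofork.ofπ (ψ ≫ h.q) hjq')
  have hb : h'.q ≫ b = ψ ≫ h.q :=
    h'.ej.gIsCokernel.fac (CokernelCofork.ofπ (ψ ≫ h.q) hjq') WalkingParallelPair.one
  refine ⟨⟨a, b, ?_, ?_⟩, ?_, ?_⟩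
  · rw [← cancel_epi h.q, ← Category.assoc, ha, Category.assoc, hb, ← Category.assoc, hφψ, Category.id_comp,
      Category.comp_id]
  · rw [← cancel_epi h'.q, ← Category.assoc, hb, Category.assoc, ha, ← Category.assoc, hψφ, Category.id_comp,
      Category.comp_id]
  · dsimp only
    rw [← h.tq, Category.assoc, ha, ← Category.assoc, ht, h'.tq]
  · dsimp only
    rw [← cancel_epi h.q, ← Category.assoc, ha, Category.assoc, h'.qp, ← Category.assoc, hφ1, h.qp]

/-- If `T₂` is split, then `T₁` is the sum of `T₁` and `T₂`. -/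
theorem isSum_of_isSplit (h : IsSplit T₂) : Nonempty (IsSum T₁ T₂ T₁) := by
  obtain ⟨σ, ρ, h1, h2, h3⟩ := h
  have h4 : σ ≫ ρ = 0 := by
    have h4 : σ ≫ (ρ ≫ T₂.s + T₂.p ≫ σ) = σ := by rw [h3, Category.comp_id]
    rw [Preadditive.comp_add, ← Category.assoc σ T₂.p, h2, Category.id_comp, add_eq_right] at h4
    have h5 : (σ ≫ ρ ≫ T₂.s) ≫ ρ = 0 := by rw [h4, zero_comp]
    rwa [Category.assoc, Category.assoc, h1, Category.comp_id] at h5
  -- `K = E₁ ⊞ O`, `(e, c) ↦ (e, c s₂ + (p₁ e) σ)`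
  let k₁ : T₁.E ⊞ O ⟶ T₁.E := biprod.fst
  let k₂ : T₁.E ⊞ O ⟶ T₂.E := biprod.desc (T₁.p ≫ σ) T₂.s
  have wk : biprod.lift k₁ k₂ ≫ biprod.desc T₁.p (-T₂.p) = 0 := by
    rw [biprod.lift_desc]
    apply biprod.hom_ext'
    · simp [k₁, k₂, h2]
    · simp [k₁, k₂, T₂.w]
  have ek : (ShortComplex.mk (biprod.lift k₁ k₂) (biprod.desc T₁.p (-T₂.p)) wk).ShortExact := by
    refine ShortComplex.Splitting.shortExact
      { r := biprod.desc (biprod.lift (𝟙 _) 0) (biprod.lift 0 ρ)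
        s := -(σ ≫ biprod.inr)
        f_r := ?_
        s_g := ?_
        id := ?_ }
    · dsimp only
      apply biprod.hom_ext'
      · apply biprod.hom_ext
        · simp [k₁, k₂]
        · simp [k₁, k₂, h4]
      · apply biprod.hom_ext
        · simp [k₁, k₂]
        · simp [k₁, k₂, h1]
    · dsimp only
      simp [h2]
    · dsimp only
      apply biprod.hom_ext'
      · apply biprod.hom_ext
        · simp [k₁, k₂]
        · simp [k₁, k₂]
      · apply biprod.hom_ext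
        · simp [k₁, k₂]
        · simp [k₁, k₂, h3]
  -- `O → K`, `1 ↦ (s₁, -1)`
  let j : O ⟶ T₁.E ⊞ O := biprod.lift T₁.s (-𝟙 _)
  let q : T₁.E ⊞ O ⟶ T₁.E := biprod.desc (𝟙 _) T₁.s
  have wj : j ≫ q = 0 := by simp [j, q]
  have ej : (ShortComplex.mk j q wj).ShortExact := by
    refine ShortComplex.Splitting.shortExact
      { r := -biprod.snd
        s := biprod.inl
        f_r := ?_
        s_g := ?_
        id := ?_ }
    · simp [j]
    · simp [q]
    · dsimp only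
      apply biprod.hom_ext'
      · apply biprod.hom_ext
        · simp [j, q]
        · simp [j, q]
      · apply biprod.hom_ext
        · simp [j, q]
        · simp [j, q]
  refine ⟨⟨T₁.E ⊞ O, k₁, k₂, j, q, biprod.lift T₁.s 0, wk, ek, wj, ej, ?_, ?_, ?_, ?_, ?_, ?_⟩⟩
  · simp [j, k₁]
  · simp only [j, k₂, biprod.lift_desc]
    rw [← Category.assoc, T₁.w, zero_comp, zero_add, Preadditive.neg_comp, Category.id_comp]
  · apply biprod.hom_ext'
    · simp [q, k₁]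
    · simp [q, k₁, T₁.w]
  · simp [k₁]
  · simp only [k₂, biprod.lift_desc]
    rw [← Category.assoc, T₁.w, zero_comp, zero_comp, add_zero]
  · simp [q]

theorem equiv_of_isSplit_right (h : IsSum T₁ T₂ T) (h' : IsSplit T₂) : Equiv T T₁ := by
  obtain ⟨h''⟩ := isSum_of_isSplit (T₁ := T₁) h'
  exact h.unique h''

/-- The sum is symmetric. -/
theorem IsSum.swap (h : IsSum T₁ T₂ T) : Nonempty (IsSum T₂ T₁ T) := by
  have wk : biprod.lift h.k₂ h.k₁ ≫ biprod.desc T₂.p (-T₁.p) = 0 := by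
    have h1 := h.wk
    rw [biprod.lift_desc] at h1 ⊢
    rw [Preadditive.comp_neg, add_neg_eq_zero] at h1 ⊢
    exact h1.symm
  have h0 : h.k₁ ≫ T₁.p = h.k₂ ≫ T₂.p := by
    have h1 := h.wk
    rw [biprod.lift_desc] at h1
    rw [Preadditive.comp_neg, add_neg_eq_zero] at h1
    exact h1
  have wj : (-h.j) ≫ h.q = 0 := by rw [Preadditive.neg_comp, h.wj, neg_zero]
  refine ⟨⟨h.K, h.k₂, h.k₁, -h.j, h.q, h.t - h.j, wk, ?_, wj, ?_, ?_, ?_, ?_, ?_, ?_, ?_⟩⟩
  · refine ShortComplex.shortExact_of_iso ?_ h.ek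
    refine ShortComplex.isoMk (Iso.refl _) (biprod.braiding _ _)
      { hom := -𝟙 _, inv := -𝟙 _, hom_inv_id := by simp, inv_hom_id := by simp } ?_ ?_
    · dsimp only [Iso.refl_hom, biprod.braiding_hom]
      rw [Category.id_comp]
      apply biprod.hom_ext
      · simp
      · simp
    · dsimp only [biprod.braiding_hom]
      apply biprod.hom_ext'
      · simp
      · simp
  · refine ShortComplex.shortExact_of_iso ?_ h.ej
    refine ShortComplex.isoMk { hom := -𝟙 _, inv := -𝟙 _, hom_inv_id := by simp, inv_hom_id := by simp }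
      (Iso.refl _) (Iso.refl _) ?_ ?_
    · simp
    · simp
  · rw [Preadditive.neg_comp, h.jk₂, neg_neg]
  · rw [Preadditive.neg_comp, h.jk₁]
  · rw [h.qp, h0]
  · rw [Preadditive.sub_comp, h.tk₂, h.jk₂, zero_sub, neg_neg]
  · rw [Preadditive.sub_comp, h.tk₁, h.jk₁, sub_self]
  · rw [Preadditive.sub_comp, h.tq, h.wj, sub_zero]

theorem equiv_of_isSplit_left (h : IsSum T₁ T₂ T) (h' : IsSplit T₁) : Equiv T T₂ := by
  obtain ⟨h''⟩ := h.swap
  exact equiv_of_isSplit_right h'' h'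

/-- Isomorphism invariance of the sum. -/
theorem IsSum.congr {T₁' T₂' : Tri O} (h : IsSum T₁ T₂ T) (e₁ : Equiv T₁ T₁') (e₂ : Equiv T₂ T₂') :
    Nonempty (IsSum T₁' T₂' T) := by
  obtain ⟨e₁, a₁, b₁⟩ := e₁
  obtain ⟨e₂, a₂, b₂⟩ := e₂
  have wk : biprod.lift (h.k₁ ≫ e₁.hom) (h.k₂ ≫ e₂.hom) ≫ biprod.desc T₁'.p (-T₂'.p) = 0 := by
    have h1 := h.wk
    rw [biprod.lift_desc] at h1 ⊢
    rw [Preadditive.comp_neg] at h1 ⊢
    rw [Category.assoc, Category.assoc, b₁, b₂, h1]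
  refine ⟨⟨h.K, h.k₁ ≫ e₁.hom, h.k₂ ≫ e₂.hom, h.j, h.q, h.t, wk, ?_, h.wj, h.ej, ?_, ?_, ?_, ?_, ?_, h.tq⟩⟩
  · refine ShortComplex.shortExact_of_iso ?_ h.ek
    refine ShortComplex.isoMk (Iso.refl _) (biprod.mapIso e₁ e₂) (Iso.refl _) ?_ ?_
    · dsimp only [Iso.refl_hom, biprod.mapIso_hom]
      apply biprod.hom_ext
      · simp
      · simp
    · dsimp only [Iso.refl_hom, biprod.mapIso_hom]
      apply biprod.hom_ext'
      · simp [b₁]
      · simp [b₂]
  · rw [← Category.assoc, h.jk₁, a₁]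
  · rw [← Category.assoc, h.jk₂, Preadditive.neg_comp, a₂]
  · rw [h.qp, Category.assoc, b₁]
  · rw [← Category.assoc, h.tk₁, a₁]
  · rw [← Category.assoc, h.tk₂, zero_comp]

/-! ### Functors -/

section Functor

variable (F : C ⥤ D) [F.Additive] {O' : D} (η : F.obj O ≅ O')

/-- The image of a triple. -/
abbrev Tri.map (T : Tri O) : Tri O' where
  E := F.obj T.E
  s := η.inv ≫ F.map T.s
  p := F.map T.p ≫ η.hom
  w := by rw [Category.assoc, ← Category.assoc (F.map T.s), ← F.map_comp, T.w, F.map_zero, zero_comp, comp_zero]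

theorem Equiv.map (h : Equiv T T') : Equiv (T.map F η) (T'.map F η) := by
  obtain ⟨e, h1, h2⟩ := h
  refine ⟨F.mapIso e, ?_, ?_⟩
  · change (η.inv ≫ F.map T.s) ≫ F.map e.hom = η.inv ≫ F.map T'.s
    rw [Category.assoc, ← F.map_comp, h1]
  · change F.map e.hom ≫ F.map T'.p ≫ η.hom = F.map T.p ≫ η.hom
    rw [← Category.assoc, ← F.map_comp, h2]

theorem IsSplit.map (h : IsSplit T) : IsSplit (T.map F η) := by
  obtain ⟨σ, ρ, h1, h2, h3⟩ := h
  refine ⟨η.inv ≫ F.map σ, F.map ρ ≫ η.hom, ?_, ?_, ?_⟩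
  · change (η.inv ≫ F.map T.s) ≫ F.map ρ ≫ η.hom = 𝟙 _
    rw [Category.assoc, ← Category.assoc (F.map T.s), ← F.map_comp, h1, F.map_id, Category.id_comp, Iso.inv_hom_id]
  · change (η.inv ≫ F.map σ) ≫ F.map T.p ≫ η.hom = 𝟙 _
    rw [Category.assoc, ← Category.assoc (F.map σ), ← F.map_comp, h2, F.map_id, Category.id_comp, Iso.inv_hom_id]
  · change (F.map ρ ≫ η.hom) ≫ η.inv ≫ F.map T.s + (F.map T.p ≫ η.hom) ≫ η.inv ≫ F.map σ = 𝟙 _
    rw [Category.assoc, Category.assoc, Iso.hom_inv_id_assoc, Iso.hom_inv_id_assoc, ← F.map_comp, ← F.map_comp,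
      ← F.map_add, h3, F.map_id]

omit O' η in
/-- An additive functor preserves biproducts. -/
noncomputable def mapBi (Y Z : C) : F.obj (Y ⊞ Z) ≅ F.obj Y ⊞ F.obj Z where
  hom := biprod.lift (F.map biprod.fst) (F.map biprod.snd)
  inv := biprod.desc (F.map biprod.inl) (F.map biprod.inr)
  hom_inv_id := by
    rw [biprod.lift_desc, ← F.map_comp, ← F.map_comp, ← F.map_add, biprod.total, F.map_id]
  inv_hom_id := by
    apply biprod.hom_ext'
    · apply biprod.hom_ext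
      · simp [← F.map_comp]
      · simp [← F.map_comp]
    · apply biprod.hom_ext
      · simp [← F.map_comp]
      · simp [← F.map_comp]

theorem map_lift {X Y Z : C} (a : X ⟶ Y) (b : X ⟶ Z) :
    F.map (biprod.lift a b) ≫ (mapBi F Y Z).hom = biprod.lift (F.map a) (F.map b) := by
  apply biprod.hom_ext
  · simp [mapBi, ← F.map_comp]
  · simp [mapBi, ← F.map_comp]

theorem map_desc {X Y Z : C} (a : Y ⟶ X) (b : Z ⟶ X) :
    (mapBi F Y Z).hom ≫ biprod.desc (F.map a) (F.map b) = F.map (biprod.desc a b) := by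
  rw [← Iso.eq_inv_comp]
  apply biprod.hom_ext'
  · simp [mapBi, ← F.map_comp]
  · simp [mapBi, ← F.map_comp]

/-- An additive functor preserving the two short exact sequences preserves the sum. -/
theorem IsSum.map (h : IsSum T₁ T₂ T)
    (hk : ((ShortComplex.mk (biprod.lift h.k₁ h.k₂) (biprod.desc T₁.p (-T₂.p)) h.wk).map F).ShortExact)
    (hj : ((ShortComplex.mk h.j h.q h.wj).map F).ShortExact) :
    Nonempty (IsSum (T₁.map F η) (T₂.map F η) (T.map F η)) := by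
  have wk : biprod.lift (F.map h.k₁) (F.map h.k₂) ≫ biprod.desc (F.map T₁.p ≫ η.hom) (-(F.map T₂.p ≫ η.hom)) = 0 := by
    have h1 := congrArg F.map h.wk
    rw [biprod.lift_desc] at h1 ⊢
    rw [F.map_add, F.map_comp, F.map_comp, F.map_neg, F.map_zero] at h1
    rw [← Category.assoc, Preadditive.comp_neg, ← Category.assoc, ← Preadditive.neg_comp, ← Preadditive.add_comp,
      ← Preadditive.comp_neg, h1, zero_comp]
  have wj : (η.inv ≫ F.map h.j) ≫ F.map h.q = 0 := by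
    rw [Category.assoc, ← F.map_comp, h.wj, F.map_zero, comp_zero]
  refine ⟨⟨F.obj h.K, F.map h.k₁, F.map h.k₂, η.inv ≫ F.map h.j, F.map h.q, η.inv ≫ F.map h.t, wk, ?_, wj, ?_,
    ?_, ?_, ?_, ?_, ?_, ?_⟩⟩
  · refine ShortComplex.shortExact_of_iso ?_ hk
    refine ShortComplex.isoMk (Iso.refl _) (mapBi F _ _) η ?_ ?_
    · dsimp only [ShortComplex.map, Iso.refl_hom]
      rw [Category.id_comp]
      exact (map_lift F _ _).symm
    · dsimp only [ShortComplex.map]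
      rw [← map_desc, Category.assoc]
      congr 1
      apply biprod.hom_ext'
      · simp [Tri.map]
      · rw [F.map_neg]
        refine (biprod.inr_desc _ _).trans ?_
        refine Eq.trans ?_ (biprod.inr_desc_assoc _ _ _).symm
        exact (Preadditive.neg_comp _ _).symm
  · refine ShortComplex.shortExact_of_iso ?_ hj
    refine ShortComplex.isoMk η (Iso.refl _) (Iso.refl _) ?_ ?_
    · dsimp only [ShortComplex.map, Iso.refl_hom]
      rw [Iso.hom_inv_id_assoc, Category.comp_id]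
    · dsimp only [ShortComplex.map, Iso.refl_hom]
      exact (Category.id_comp _).trans (Category.comp_id _).symm
  · change (η.inv ≫ F.map h.j) ≫ F.map h.k₁ = η.inv ≫ F.map T₁.s
    rw [Category.assoc, ← F.map_comp, h.jk₁]
  · change (η.inv ≫ F.map h.j) ≫ F.map h.k₂ = -(η.inv ≫ F.map T₂.s)
    rw [Category.assoc, ← F.map_comp, h.jk₂, F.map_neg, Preadditive.comp_neg]
  · change F.map h.q ≫ F.map T.p ≫ η.hom = F.map h.k₁ ≫ F.map T₁.p ≫ η.hom
    rw [← Category.assoc, ← F.map_comp, h.qp, F.map_comp, Category.assoc]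
  · change (η.inv ≫ F.map h.t) ≫ F.map h.k₁ = η.inv ≫ F.map T₁.s
    rw [Category.assoc, ← F.map_comp, h.tk₁]
  · change (η.inv ≫ F.map h.t) ≫ F.map h.k₂ = 0
    rw [Category.assoc, ← F.map_comp, h.tk₂, F.map_zero, comp_zero]
  · change (η.inv ≫ F.map h.t) ≫ F.map h.q = η.inv ≫ F.map T.s
    rw [Category.assoc, ← F.map_comp, h.tq]

end Functor

end K697.Tri
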