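import Groth.Agent.VBPn.K697.Tri

/-!
# Bicartesian squares, the standard triples and the basic block
-/

set_option autoImplicit false
set_option linter.dupNamespace false

universe v v' w w'

open CategoryTheory CategoryTheory.Limits

namespace K697.Tri

variable {C : Type w} [Category.{v} C] [Abelian C] {D : Type w'} [Category.{v'} D] [Abelian D]

/-- The square `A → B → D`, `A → C → D` is bicartesian. -/
def IsKos {X₁ X₂ X₃ X₄ : C} (f : X₁ ⟶ X₂) (g : X₁ ⟶ X₃) (g' : X₂ ⟶ X₄) (f' : X₃ ⟶ X₄) : Prop :=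
  ∃ w : biprod.lift f g ≫ biprod.desc g' (-f') = 0, (ShortComplex.mk _ _ w).ShortExact

section IsKos

variable {X₁ X₂ X₃ X₄ : C} {f : X₁ ⟶ X₂} {g : X₁ ⟶ X₃} {g' : X₂ ⟶ X₄} {f' : X₃ ⟶ X₄}

theorem lift_desc_neg_iff : biprod.lift f g ≫ biprod.desc g' (-f') = 0 ↔ f ≫ g' = g ≫ f' := by
  rw [biprod.lift_desc, Preadditive.comp_neg, add_neg_eq_zero]

theorem IsKos.comm (h : IsKos f g g' f') : f ≫ g' = g ≫ f' := lift_desc_neg_iff.mp h.choose

theorem IsKos.exists_lift (h : IsKos f g g' f') {W : C} (x : W ⟶ X₂) (y : W ⟶ X₃) (hxy : x ≫ g' = y ≫ f') :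
    ∃ z : W ⟶ X₁, z ≫ f = x ∧ z ≫ g = y := by
  obtain ⟨w, h⟩ := h
  let z : W ⟶ X₁ := h.fIsKernel.lift (KernelFork.ofι (biprod.lift x y) (lift_desc_neg_iff.mpr hxy))
  have hz : z ≫ biprod.lift f g = biprod.lift x y :=
    h.fIsKernel.fac (KernelFork.ofι (biprod.lift x y) (lift_desc_neg_iff.mpr hxy)) WalkingParallelPair.zero
  refine ⟨z, ?_, ?_⟩
  · have := congrArg (· ≫ biprod.fst) hz
    simpa using this
  · have := congrArg (· ≫ biprod.snd) hz
    simpa using this

theorem IsKos.hom_ext (h : IsKos f g g' f') {W : C} {x y : W ⟶ X₁} (h1 : x ≫ f = y ≫ f) (h2 : x ≫ g = y ≫ g) :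
    x = y := by
  obtain ⟨w, h⟩ := h
  have hm : Mono (biprod.lift f g) := h.mono_f
  rw [← cancel_mono (biprod.lift f g)]
  apply biprod.hom_ext
  · simpa using h1
  · simpa using h2

theorem IsKos.exists_desc (h : IsKos f g g' f') {W : C} (x : X₂ ⟶ W) (y : X₃ ⟶ W) (hxy : f ≫ x = g ≫ y) :
    ∃ z : X₄ ⟶ W, g' ≫ z = x ∧ f' ≫ z = y := by
  obtain ⟨w, h⟩ := h
  have h0 : biprod.lift f g ≫ biprod.desc x (-y) = 0 := lift_desc_neg_iff.mpr hxy
  let z : X₄ ⟶ W := h.gIsCokernel.desc (CokernelCofork.ofπ (biprod.desc x (-y)) h0)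
  have hz : biprod.desc g' (-f') ≫ z = biprod.desc x (-y) :=
    h.gIsCokernel.fac (CokernelCofork.ofπ (biprod.desc x (-y)) h0) WalkingParallelPair.one
  refine ⟨z, ?_, ?_⟩
  · have := congrArg (biprod.inl ≫ ·) hz
    simpa using this
  · have := congrArg (biprod.inr ≫ ·) hz
    simpa using this

theorem IsKos.hom_ext' (h : IsKos f g g' f') {W : C} {x y : X₄ ⟶ W} (h1 : g' ≫ x = g' ≫ y) (h2 : f' ≫ x = f' ≫ y) :
    x = y := by
  obtain ⟨w, h⟩ := h
  have hm : Epi (biprod.desc g' (-f')) := h.epi_g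
  rw [← cancel_epi (biprod.desc g' (-f'))]
  apply biprod.hom_ext'
  · simpa using h1
  · simpa using h2

theorem isKos_of_isIso (w : f ≫ g' = g ≫ f') [IsIso f] [IsIso f'] : IsKos f g g' f' := by
  have h1 : g' ≫ inv f' = inv f ≫ g := by
    rw [IsIso.comp_inv_eq, Category.assoc, ← w, IsIso.inv_hom_id_assoc]
  refine ⟨lift_desc_neg_iff.mpr w, ShortComplex.Splitting.shortExact
    { r := biprod.fst ≫ inv f
      s := -(inv f' ≫ biprod.inr)
      f_r := by simp
      s_g := by simp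
      id := ?_ }⟩
  dsimp only
  apply biprod.hom_ext'
  · apply biprod.hom_ext
    · simp
    · simp [h1]
  · apply biprod.hom_ext
    · simp
    · simp

theorem isKos_of_isIso' (w : f ≫ g' = g ≫ f') [IsIso g] [IsIso g'] : IsKos f g g' f' := by
  have h1 : f' ≫ inv g' = inv g ≫ f := by
    rw [IsIso.comp_inv_eq, Category.assoc, w, IsIso.inv_hom_id_assoc]
  refine ⟨lift_desc_neg_iff.mpr w, ShortComplex.Splitting.shortExact
    { r := biprod.snd ≫ inv g
      s := inv g' ≫ biprod.inl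
      f_r := by simp
      s_g := by simp
      id := ?_ }⟩
  dsimp only
  apply biprod.hom_ext'
  · apply biprod.hom_ext
    · simp
    · simp
  · apply biprod.hom_ext
    · simp [h1]
    · simp

/-- The square is bicartesian after applying `F` iff the image of the short complex is short exact. -/
theorem shortExact_map_of_isKos (F : C ⥤ D) [F.Additive] (w : biprod.lift f g ≫ biprod.desc g' (-f') = 0)
    (h : IsKos (F.map f) (F.map g) (F.map g') (F.map f')) :
    ((ShortComplex.mk _ _ w).map F).ShortExact := by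
  obtain ⟨w', h⟩ := h
  refine ShortComplex.shortExact_of_iso ?_ h
  refine ShortComplex.isoMk (Iso.refl _) (mapBi F _ _).symm (Iso.refl _) ?_ ?_
  · dsimp only [ShortComplex.map, Iso.refl_hom, Iso.symm_hom]
    rw [← map_lift, Category.assoc, Iso.hom_inv_id, Category.comp_id, Category.id_comp]
  · dsimp only [ShortComplex.map, Iso.refl_hom, Iso.symm_hom]
    rw [← map_desc, F.map_neg, Iso.inv_hom_id_assoc, Category.comp_id]

end IsKos

variable {O : C}

/-- The standard triple `O → B ⊞ B' → O`. -/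
noncomputable abbrev std {B B' : C} (f : O ⟶ B) (f' : B' ⟶ O) : Tri O where
  E := B ⊞ B'
  s := biprod.lift f 0
  p := biprod.desc 0 f'
  w := by rw [biprod.lift_desc, comp_zero, zero_comp, add_zero]

theorem std_sum {B B' X X' Y A : C} {f : O ⟶ B} {f' : B' ⟶ O} {h : O ⟶ X} {h' : X' ⟶ O} {h₁ : B ⟶ Y} {f₁ : X ⟶ Y}
    {h₂ : A ⟶ B'} {f₂ : A ⟶ X'} (k : IsKos f h h₁ f₁) (k' : IsKos h₂ f₂ f' h') :
    Nonempty (IsSum (std f f') (std h h') (std (f ≫ h₁) (h₂ ≫ f'))) := by
  let k₁ : (B ⊞ X) ⊞ A ⟶ B ⊞ B' := biprod.desc (biprod.desc biprod.inl 0) (h₂ ≫ biprod.inr)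
  let k₂ : (B ⊞ X) ⊞ A ⟶ X ⊞ X' := biprod.desc (biprod.desc 0 biprod.inl) (f₂ ≫ biprod.inr)
  let j : O ⟶ (B ⊞ X) ⊞ A := biprod.lift (biprod.lift f (-h)) 0
  let q : (B ⊞ X) ⊞ A ⟶ Y ⊞ A := biprod.desc (biprod.desc (h₁ ≫ biprod.inl) (f₁ ≫ biprod.inl)) biprod.inr
  let t : O ⟶ (B ⊞ X) ⊞ A := biprod.lift (biprod.lift f 0) 0
  have c1 := k.comm
  have c2 := k'.comm
  have wk : biprod.lift k₁ k₂ ≫ biprod.desc (std f f').p (-(std h h').p) = 0 := by
    rw [biprod.lift_desc]
    apply biprod.hom_ext'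
    · apply biprod.hom_ext'
      · simp [k₁, k₂, std]
      · simp [k₁, k₂, std]
    · simp [k₁, k₂, std, c2]
  have wj : j ≫ q = 0 := by
    apply biprod.hom_ext
    · simp [j, q, c1]
    · simp [j, q]
  refine ⟨⟨(B ⊞ X) ⊞ A, k₁, k₂, j, q, t, wk, ?_, wj, ?_, ?_, ?_, ?_, ?_, ?_, ?_⟩⟩
  · have hm : Mono (biprod.lift k₁ k₂) := by
      apply Preadditive.mono_of_cancel_zero
      intro W z hz
      have e1 : z ≫ k₁ = 0 := by simpa using congrArg (· ≫ biprod.fst) hz
      have e2 : z ≫ k₂ = 0 := by simpa using congrArg (· ≫ biprod.snd) hz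
      have hz' : z = biprod.lift (biprod.lift (z ≫ biprod.fst ≫ biprod.fst) (z ≫ biprod.fst ≫ biprod.snd))
          (z ≫ biprod.snd) := by
        apply biprod.hom_ext
        · apply biprod.hom_ext <;> simp
        · simp
      have e3 : z ≫ biprod.fst ≫ biprod.fst = 0 := by
        rw [hz'] at e1
        simpa [k₁] using congrArg (· ≫ biprod.fst) e1
      have e4 : z ≫ biprod.fst ≫ biprod.snd = 0 := by
        rw [hz'] at e2
        simpa [k₂] using congrArg (· ≫ biprod.fst) e2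
      have e5 : z ≫ biprod.snd = 0 := by
        refine k'.hom_ext ?_ ?_
        · rw [hz'] at e1
          simpa [k₁] using congrArg (· ≫ biprod.snd) e1
        · rw [hz'] at e2
          simpa [k₂] using congrArg (· ≫ biprod.snd) e2
      rw [hz', e3, e4, e5]
      apply biprod.hom_ext
      · apply biprod.hom_ext <;> simp
      · simp
    have he : Epi (biprod.desc (std f f').p (-(std h h').p)) := by
      apply Preadditive.epi_of_cancel_zero
      intro W z hz
      have e1 : (std f f').p ≫ z = 0 := by simpa using congrArg (biprod.inl ≫ ·) hz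
      have e2 : (std h h').p ≫ z = 0 := by simpa using congrArg (biprod.inr ≫ ·) hz
      refine k'.hom_ext' ?_ ?_
      · simpa [std] using congrArg (biprod.inr ≫ ·) e1
      · simpa [std] using congrArg (biprod.inr ≫ ·) e2
    refine ShortComplex.ShortExact.mk' ?_ hm he
    refine ShortComplex.exact_of_f_is_kernel _ ?_
    refine KernelFork.IsLimit.ofι' _ _ fun {W} z hz => ?_
    have hz1 : (z ≫ biprod.fst ≫ biprod.snd) ≫ f' = (z ≫ biprod.snd ≫ biprod.snd) ≫ h' := by
      have hz0 : z = biprod.lift (biprod.lift (z ≫ biprod.fst ≫ biprod.fst) (z ≫ biprod.fst ≫ biprod.snd))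
          (biprod.lift (z ≫ biprod.snd ≫ biprod.fst) (z ≫ biprod.snd ≫ biprod.snd)) := by
        apply biprod.hom_ext
        · apply biprod.hom_ext <;> simp
        · apply biprod.hom_ext <;> simp
      dsimp only at hz
      rw [hz0] at hz
      simp only [std, biprod.lift_desc, comp_zero, zero_add, Preadditive.comp_neg] at hz
      rwa [add_neg_eq_zero] at hz
    have ex := k'.exists_lift _ _ hz1
    refine ⟨biprod.lift (biprod.lift (z ≫ biprod.fst ≫ biprod.fst) (z ≫ biprod.snd ≫ biprod.fst)) ex.choose, ?_⟩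
    have ex1 := ex.choose_spec.1
    have ex2 := ex.choose_spec.2
    dsimp only
    apply biprod.hom_ext
    · apply biprod.hom_ext
      · simp [k₁]
      · simp [k₁, ex1]
    · apply biprod.hom_ext
      · simp [k₂]
      · simp [k₂, ex2]
  · have hm : Mono j := by
      apply Preadditive.mono_of_cancel_zero
      intro W z hz
      refine k.hom_ext ?_ ?_
      · simpa [j] using congrArg (· ≫ biprod.fst ≫ biprod.fst) hz
      · simpa [j] using congrArg (· ≫ biprod.fst ≫ biprod.snd) hz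
    have he : Epi q := by
      apply Preadditive.epi_of_cancel_zero
      intro W z hz
      apply biprod.hom_ext'
      · refine k.hom_ext' ?_ ?_
        · simpa [q] using congrArg (biprod.inl ≫ biprod.inl ≫ ·) hz
        · simpa [q] using congrArg (biprod.inr ≫ biprod.inl ≫ ·) hz
      · simpa [q] using congrArg (biprod.inr ≫ ·) hz
    refine ShortComplex.ShortExact.mk' ?_ hm he
    refine ShortComplex.exact_of_g_is_cokernel _ ?_
    refine CokernelCofork.IsColimit.ofπ' _ _ fun {W} z hz => ?_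
    have hz0 : z = biprod.desc (biprod.desc (biprod.inl ≫ biprod.inl ≫ z) (biprod.inr ≫ biprod.inl ≫ z))
        (biprod.inr ≫ z) := by
      apply biprod.hom_ext'
      · apply biprod.hom_ext' <;> simp
      · simp
    have hz1 : f ≫ biprod.inl ≫ biprod.inl ≫ z = h ≫ biprod.inr ≫ biprod.inl ≫ z := by
      dsimp only at hz
      rw [hz0] at hz
      simp only [j, biprod.lift_desc, zero_comp, add_zero, Preadditive.neg_comp] at hz
      rwa [add_neg_eq_zero] at hz
    have ex := k.exists_desc _ _ hz1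
    refine ⟨biprod.desc ex.choose (biprod.inr ≫ z), ?_⟩
    have ex1 := ex.choose_spec.1
    have ex2 := ex.choose_spec.2
    dsimp only
    apply biprod.hom_ext'
    · apply biprod.hom_ext'
      · simp [q, ex1]
      · simp [q, ex2]
    · simp [q]
  · apply biprod.hom_ext <;> simp [j, k₁, std]
  · apply biprod.hom_ext <;> simp [j, k₂, std]
  · apply biprod.hom_ext'
    · apply biprod.hom_ext' <;> simp [q, k₁, std]
    · simp [q, k₁, std]
  · apply biprod.hom_ext <;> simp [t, k₁, std]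
  · apply biprod.hom_ext <;> simp [t, k₂, std]
  · apply biprod.hom_ext <;> simp [t, q, std]

/-- The basic block: `E = coker (O₂ → O ⊞ O₁ ⊞ O₁)`. -/
structure IsBlock {O₁ O₂ : C} (q : O₂ ⟶ O) (u' v' : O₂ ⟶ O₁) (u v : O₁ ⟶ O) (T : Tri O) where
  a : O₁ ⟶ T.E
  b : O₁ ⟶ T.E
  w : biprod.lift q (biprod.lift u' v') ≫ biprod.desc T.s (biprod.desc a b) = 0
  ex : (ShortComplex.mk _ _ w).Exact
  epi : Epi (biprod.desc T.s (biprod.desc a b))
  ap : a ≫ T.p = v
  bp : b ≫ T.p = -u

section Block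

variable {O₁ O₂ : C} {q : O₂ ⟶ O} {u' v' : O₂ ⟶ O₁} {u v : O₁ ⟶ O} {T : Tri O}

theorem exists_isBlock (q : O₂ ⟶ O) {u' v' : O₂ ⟶ O₁} {u v : O₁ ⟶ O} (h : u' ≫ v = v' ≫ u) :
    ∃ T : Tri O, Nonempty (IsBlock q u' v' u v T) := by
  let κ : O₂ ⟶ O ⊞ (O₁ ⊞ O₁) := biprod.lift q (biprod.lift u' v')
  have hκ : κ ≫ biprod.desc 0 (biprod.desc v (-u)) = 0 := by
    rw [biprod.lift_desc, biprod.lift_desc, comp_zero, zero_add, Preadditive.comp_neg, h, add_neg_cancel]
  let T : Tri O :=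
    { E := cokernel κ
      s := biprod.inl ≫ cokernel.π κ
      p := cokernel.desc κ (biprod.desc 0 (biprod.desc v (-u))) hκ
      w := by rw [Category.assoc, cokernel.π_desc, biprod.inl_desc] }
  have h0 : biprod.desc (biprod.inl ≫ cokernel.π κ) (biprod.desc ((biprod.inl ≫ biprod.inr) ≫ cokernel.π κ)
      ((biprod.inr ≫ biprod.inr) ≫ cokernel.π κ)) = cokernel.π κ := by
    apply biprod.hom_ext'
    · simp
    · apply biprod.hom_ext' <;> simp
  refine ⟨T, ⟨⟨(biprod.inl ≫ biprod.inr) ≫ cokernel.π κ, (biprod.inr ≫ biprod.inr) ≫ cokernel.π κ, ?_, ?_, ?_, ?_, ?_⟩⟩⟩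
  · rw [h0]
    exact cokernel.condition κ
  · have h3 : (ShortComplex.mk κ (cokernel.π κ) (cokernel.condition κ)).Exact := ShortComplex.exact_cokernel κ
    convert h3 using 2
  · rw [h0]
    infer_instance
  · rw [Category.assoc]
    refine (congrArg (fun z => (biprod.inl ≫ biprod.inr) ≫ z) (cokernel.π_desc κ _ hκ)).trans ?_
    simp
  · rw [Category.assoc]
    refine (congrArg (fun z => (biprod.inr ≫ biprod.inr) ≫ z) (cokernel.π_desc κ _ hκ)).trans ?_
    simp

theorem IsBlock.rel (B : IsBlock q u' v' u v T) : q ≫ T.s + u' ≫ B.a + v' ≫ B.b = 0 := by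
  have := B.w
  rwa [biprod.lift_desc, biprod.lift_desc, ← add_assoc] at this

theorem IsBlock.hom_ext (B : IsBlock q u' v' u v T) {W : C} {x y : T.E ⟶ W} (h1 : T.s ≫ x = T.s ≫ y)
    (h2 : B.a ≫ x = B.a ≫ y) (h3 : B.b ≫ x = B.b ≫ y) : x = y := by
  have := B.epi
  rw [← cancel_epi (biprod.desc T.s (biprod.desc B.a B.b))]
  apply biprod.hom_ext'
  · simpa using h1
  · apply biprod.hom_ext'
    · simpa using h2
    · simpa using h3

theorem IsBlock.exists_desc (B : IsBlock q u' v' u v T) {W : C} (x : O ⟶ W) (y z : O₁ ⟶ W)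
    (h : q ≫ x + u' ≫ y + v' ≫ z = 0) : ∃ g : T.E ⟶ W, T.s ≫ g = x ∧ B.a ≫ g = y ∧ B.b ≫ g = z := by
  have hepi := B.epi
  have h0 : biprod.lift q (biprod.lift u' v') ≫ biprod.desc x (biprod.desc y z) = 0 := by
    rw [biprod.lift_desc, biprod.lift_desc, ← add_assoc, h]
  let g : T.E ⟶ W := B.ex.gIsCokernel.desc (CokernelCofork.ofπ (biprod.desc x (biprod.desc y z)) h0)
  have hg : biprod.desc T.s (biprod.desc B.a B.b) ≫ g = biprod.desc x (biprod.desc y z) :=
    B.ex.gIsCokernel.fac (CokernelCofork.ofπ (biprod.desc x (biprod.desc y z)) h0) WalkingParallelPair.one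
  refine ⟨g, ?_, ?_, ?_⟩
  · simpa using congrArg (biprod.inl ≫ ·) hg
  · simpa using congrArg ((biprod.inl ≫ biprod.inr) ≫ ·) hg
  · simpa using congrArg ((biprod.inr ≫ biprod.inr) ≫ ·) hg

theorem IsBlock.isSplit (B : IsBlock q u' v' u v T) (hK : IsKos u' v' v u) (α β : O₁ ⟶ O)
    (hq : q = u' ≫ α + v' ≫ β) : IsSplit T := by
  obtain ⟨ρ, r1, r2, r3⟩ := B.exists_desc (𝟙 _) (-α) (-β) (by
    rw [Category.comp_id, Preadditive.comp_neg, Preadditive.comp_neg, hq]
    abel)
  have hrel := B.rel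
  obtain ⟨σ, s1, s2⟩ := hK.exists_desc (B.a ≫ (𝟙 _ - ρ ≫ T.s)) (-(B.b ≫ (𝟙 _ - ρ ≫ T.s))) (by
    have h1 : T.s ≫ (𝟙 _ - ρ ≫ T.s) = 0 := by
      rw [Preadditive.comp_sub, Category.comp_id, ← Category.assoc, r1, Category.id_comp, sub_self]
    have h2 : (q ≫ T.s + u' ≫ B.a + v' ≫ B.b) ≫ (𝟙 _ - ρ ≫ T.s) = 0 := by rw [hrel, zero_comp]
    rw [Preadditive.add_comp, Preadditive.add_comp, Category.assoc, h1, comp_zero, zero_add] at h2
    rw [Category.assoc, Category.assoc] at h2
    rw [Preadditive.comp_neg]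
    exact eq_neg_of_add_eq_zero_left h2)
  refine ⟨σ, ρ, r1, ?_, ?_⟩
  · refine hK.hom_ext' ?_ ?_
    · rw [← Category.assoc, s1, Category.assoc, Preadditive.sub_comp, Category.id_comp, Category.assoc, T.w,
        comp_zero, sub_zero, B.ap, Category.comp_id]
    · rw [← Category.assoc, s2, Preadditive.neg_comp, Category.assoc, Preadditive.sub_comp, Category.id_comp,
        Category.assoc, T.w, comp_zero, sub_zero, B.bp, neg_neg, Category.comp_id]
  · refine B.hom_ext ?_ ?_ ?_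
    · rw [Preadditive.comp_add, ← Category.assoc, r1, Category.id_comp, ← Category.assoc, T.w, zero_comp, add_zero,
        Category.comp_id]
    · rw [Preadditive.comp_add, ← Category.assoc B.a T.p, B.ap, s1, Preadditive.comp_sub, add_sub_cancel]
    · rw [Preadditive.comp_add, ← Category.assoc B.b T.p, B.bp, Preadditive.neg_comp, s2, neg_neg,
        Preadditive.comp_sub, add_sub_cancel]

theorem IsBlock.nonempty_iso (B : IsBlock q u' v' u v T) [IsIso q] : Nonempty (T.E ≅ O₁ ⊞ O₁) := by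
  obtain ⟨g, g1, g2, g3⟩ := B.exists_desc (-(inv q ≫ biprod.lift u' v')) biprod.inl biprod.inr (by
    rw [Preadditive.comp_neg, IsIso.hom_inv_id_assoc]
    apply biprod.hom_ext <;> simp)
  have hrel := B.rel
  refine ⟨⟨g, biprod.desc B.a B.b, ?_, ?_⟩⟩
  · refine B.hom_ext ?_ ?_ ?_
    · rw [← Category.assoc, g1, Preadditive.neg_comp, Category.assoc, biprod.lift_desc, Category.comp_id]
      have h1 : u' ≫ B.a + v' ≫ B.b = -(q ≫ T.s) := by
        rw [add_assoc] at hrel
        exact (neg_eq_of_add_eq_zero_right hrel).symm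
      rw [h1, Preadditive.comp_neg, IsIso.inv_hom_id_assoc, neg_neg]
    · rw [← Category.assoc, g2, biprod.inl_desc, Category.comp_id]
    · rw [← Category.assoc, g3, biprod.inr_desc, Category.comp_id]
  · apply biprod.hom_ext'
    · rw [← Category.assoc, biprod.inl_desc, g2, Category.comp_id]
    · rw [← Category.assoc, biprod.inr_desc, g3, Category.comp_id]

theorem IsBlock.equiv_std (B : IsBlock q u' v' u v T) {M : C} {H : O ⟶ M} {Q : O₁ ⟶ M} {h : O₁ ⟶ O} {h' : O₂ ⟶ O₁}
    (hK : IsKos q h' H Q) {α β γ δ : O₁ ⟶ O₁} (hu' : u' = h' ≫ α) (hv' : v' = h' ≫ β) (hu : u = α ≫ h) (hv : v = β ≫ h)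
    (h1 : α ≫ γ + β ≫ δ = 𝟙 _) (cab : α ≫ β = β ≫ α) (cac : α ≫ γ = γ ≫ α) (cad : α ≫ δ = δ ≫ α)
    (cbc : β ≫ γ = γ ≫ β) (cbd : β ≫ δ = δ ≫ β) (ccd : γ ≫ δ = δ ≫ γ) : Equiv T (std H h) := by
  have hqH : q ≫ H = h' ≫ Q := hK.comm
  have hrel := B.rel
  obtain ⟨φ, p1, p2, p3⟩ := B.exists_desc (biprod.lift H 0) (biprod.lift (-(γ ≫ Q)) β)
    (biprod.lift (-(δ ≫ Q)) (-α)) (by
      apply biprod.hom_ext
      · simp only [Preadditive.add_comp, Category.assoc, biprod.lift_fst, zero_comp, Preadditive.comp_neg]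
        have h2 : h' ≫ (α ≫ γ + β ≫ δ) ≫ Q = h' ≫ Q := by rw [h1, Category.id_comp]
        simp only [Preadditive.add_comp, Preadditive.comp_add, Category.assoc] at h2
        rw [hu', hv', hqH, Category.assoc, Category.assoc, ← h2]
        abel
      · simp only [Preadditive.add_comp, Category.assoc, biprod.lift_snd, zero_comp, Preadditive.comp_neg, comp_zero]
        rw [hu', hv', Category.assoc, Category.assoc, cab]
        abel)
  obtain ⟨m, m1, m2⟩ := hK.exists_desc T.s (-(α ≫ B.a + β ≫ B.b)) (by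
    rw [Preadditive.comp_neg, Preadditive.comp_add, ← Category.assoc, ← Category.assoc, ← hu', ← hv']
    rw [add_assoc] at hrel
    exact eq_neg_of_add_eq_zero_left hrel)
  have h1' : γ ≫ α + β ≫ δ = 𝟙 _ := by rw [← cac, h1]
  have h1'' : δ ≫ β + α ≫ γ = 𝟙 _ := by rw [← cbd, add_comm, h1]
  have h1''' : δ ≫ β + γ ≫ α = 𝟙 _ := by rw [← cbd, ← cac, add_comm, h1]
  refine ⟨⟨φ, biprod.desc m (δ ≫ B.a - γ ≫ B.b), ?_, ?_⟩, p1, ?_⟩
  · refine B.hom_ext ?_ ?_ ?_
    · rw [← Category.assoc, p1, biprod.lift_desc, m1, zero_comp, add_zero, Category.comp_id]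
    · rw [← Category.assoc, p2, biprod.lift_desc, Preadditive.neg_comp, Category.assoc, m2]
      have h2 : (γ ≫ α + β ≫ δ) ≫ B.a = B.a := by rw [h1', Category.id_comp]
      have h3 : β ≫ γ ≫ B.b = γ ≫ β ≫ B.b := by rw [← Category.assoc, cbc, Category.assoc]
      simp only [Preadditive.add_comp, Category.assoc] at h2
      simp only [Preadditive.comp_neg, Preadditive.comp_add, Preadditive.comp_sub, neg_neg, Category.comp_id]
      rw [h3]
      refine Eq.trans ?_ h2
      abel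
    · rw [← Category.assoc, p3, biprod.lift_desc, Preadditive.neg_comp, Category.assoc, m2]
      have h2 : (δ ≫ β + α ≫ γ) ≫ B.b = B.b := by rw [h1'', Category.id_comp]
      have h3 : α ≫ δ ≫ B.a = δ ≫ α ≫ B.a := by rw [← Category.assoc, cad, Category.assoc]
      simp only [Preadditive.add_comp, Category.assoc] at h2
      simp only [Preadditive.comp_neg, Preadditive.comp_add, Preadditive.comp_sub, Preadditive.neg_comp, neg_neg,
        Category.comp_id]
      rw [h3]
      refine Eq.trans ?_ h2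
      abel
  · apply biprod.hom_ext'
    · rw [← Category.assoc, biprod.inl_desc, Category.comp_id]
      refine hK.hom_ext' ?_ ?_
      · rw [← Category.assoc, m1, p1]
        apply biprod.hom_ext <;> simp
      · rw [← Category.assoc, m2, Preadditive.neg_comp, Preadditive.add_comp, Category.assoc, Category.assoc, p2, p3]
        apply biprod.hom_ext
        · have h2 : (α ≫ γ + β ≫ δ) ≫ Q = Q := by rw [h1, Category.id_comp]
          simp only [Preadditive.add_comp, Category.assoc] at h2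
          simp only [Preadditive.neg_comp, Preadditive.add_comp, Category.assoc, biprod.lift_fst, biprod.inl_fst,
            Preadditive.comp_neg, Category.comp_id]
          rw [← neg_add, neg_neg, h2]
        · simp only [Preadditive.neg_comp, Preadditive.add_comp, Category.assoc, biprod.lift_snd, biprod.inl_snd,
            Preadditive.comp_neg, comp_zero]
          rw [cab, add_neg_cancel, neg_zero]
    · rw [← Category.assoc, biprod.inr_desc, Category.comp_id, Preadditive.sub_comp, Category.assoc, Category.assoc,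
        p2, p3]
      apply biprod.hom_ext
      · simp only [Preadditive.sub_comp, Category.assoc, biprod.lift_fst, biprod.inr_fst, Preadditive.comp_neg]
        rw [← Category.assoc, ← Category.assoc, ccd, sub_self]
      · simp only [Preadditive.sub_comp, Category.assoc, biprod.lift_snd, biprod.inr_snd, Preadditive.comp_neg]
        rw [sub_neg_eq_add, h1''']
  · refine B.hom_ext ?_ ?_ ?_
    · rw [← Category.assoc, p1]
      exact (std H h).w.trans T.w.symm
    · rw [← Category.assoc, p2, B.ap, hv]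
      simp [std]
    · rw [← Category.assoc, p3, B.bp, hu]
      simp [std]

/-- A right exact functor preserves blocks. -/
theorem IsBlock.map (B : IsBlock q u' v' u v T) (F : C ⥤ D) [F.Additive] [PreservesFiniteColimits F] {O' O₁' O₂' : D}
    (η : F.obj O ≅ O') (η₁ : F.obj O₁ ≅ O₁') (η₂ : F.obj O₂ ≅ O₂') {q₁ : O₂' ⟶ O'} {u₁' v₁' : O₂' ⟶ O₁'}
    {u₁ v₁ : O₁' ⟶ O'} (hq : F.map q ≫ η.hom = η₂.hom ≫ q₁) (hu' : F.map u' ≫ η₁.hom = η₂.hom ≫ u₁')
    (hv' : F.map v' ≫ η₁.hom = η₂.hom ≫ v₁') (hu : F.map u ≫ η.hom = η₁.hom ≫ u₁)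
    (hv : F.map v ≫ η.hom = η₁.hom ≫ v₁) : Nonempty (IsBlock q₁ u₁' v₁' u₁ v₁ (T.map F η)) := by
  have hepi := B.epi
  let a' : O₁' ⟶ F.obj T.E := η₁.inv ≫ F.map B.a
  let b' : O₁' ⟶ F.obj T.E := η₁.inv ≫ F.map B.b
  have hq₁ : q₁ = η₂.inv ≫ F.map q ≫ η.hom := by rw [hq, Iso.inv_hom_id_assoc]
  have hu₁' : u₁' = η₂.inv ≫ F.map u' ≫ η₁.hom := by rw [hu', Iso.inv_hom_id_assoc]
  have hv₁' : v₁' = η₂.inv ≫ F.map v' ≫ η₁.hom := by rw [hv', Iso.inv_hom_id_assoc]
  have hu₁ : u₁ = η₁.inv ≫ F.map u ≫ η.hom := by rw [hu, Iso.inv_hom_id_assoc]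
  have hv₁ : v₁ = η₁.inv ≫ F.map v ≫ η.hom := by rw [hv, Iso.inv_hom_id_assoc]
  have hSe : ((ShortComplex.mk _ _ B.w).map F).Exact :=
    B.ex.map_of_epi_of_preservesCokernel F B.epi inferInstance
  have hw : biprod.lift q₁ (biprod.lift u₁' v₁') ≫ biprod.desc (T.map F η).s (biprod.desc a' b') = 0 := by
    have hrel := congrArg F.map B.rel
    simp only [F.map_add, F.map_comp, F.map_zero] at hrel
    rw [biprod.lift_desc, biprod.lift_desc]
    change q₁ ≫ η.inv ≫ F.map T.s + (u₁' ≫ η₁.inv ≫ F.map B.a + v₁' ≫ η₁.inv ≫ F.map B.b) = 0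
    rw [hq₁, hu₁', hv₁']
    simp only [Category.assoc, Iso.hom_inv_id_assoc]
    rw [← Preadditive.comp_add, ← Preadditive.comp_add, ← add_assoc, hrel, comp_zero]
  let e₁ : F.obj (O₁ ⊞ O₁) ≅ O₁' ⊞ O₁' := mapBi F _ _ ≪≫ biprod.mapIso η₁ η₁
  let e₂ : F.obj (O ⊞ (O₁ ⊞ O₁)) ≅ O' ⊞ (O₁' ⊞ O₁') := mapBi F _ _ ≪≫ biprod.mapIso η e₁
  have d1 : F.map (biprod.desc B.a B.b) = e₁.hom ≫ biprod.desc a' b' := by
    rw [← map_desc, Iso.trans_hom, Category.assoc]
    congr 1
    apply biprod.hom_ext'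
    · simp [a']
    · simp [b']
  have c2 : F.map (biprod.desc T.s (biprod.desc B.a B.b)) = e₂.hom ≫ biprod.desc (T.map F η).s (biprod.desc a' b') := by
    rw [← map_desc, Iso.trans_hom, Category.assoc]
    congr 1
    apply biprod.hom_ext'
    · simp
    · rw [biprod.inr_desc, d1]
      simp
  have d2 : F.map (biprod.lift u' v') ≫ e₁.hom = η₂.hom ≫ biprod.lift u₁' v₁' := by
    rw [Iso.trans_hom, ← Category.assoc, map_lift]
    apply biprod.hom_ext
    · simp [hu']
    · simp [hv']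
  have c1 : F.map (biprod.lift q (biprod.lift u' v')) ≫ e₂.hom = η₂.hom ≫ biprod.lift q₁ (biprod.lift u₁' v₁') := by
    rw [Iso.trans_hom, ← Category.assoc, map_lift]
    apply biprod.hom_ext
    · simp [hq]
    · simpa using d2
  refine ⟨⟨a', b', hw, ?_, ?_, ?_, ?_⟩⟩
  · refine ShortComplex.exact_of_iso ?_ hSe
    refine ShortComplex.isoMk η₂ e₂ (Iso.refl _) ?_ ?_
    · exact c1.symm
    · refine Eq.trans ?_ (Category.comp_id _).symm
      exact c2.symm
  · have h3 : Epi (F.map (biprod.desc T.s (biprod.desc B.a B.b))) := inferInstance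
    rw [c2] at h3
    exact @epi_of_epi _ _ _ _ _ _ _ h3
  · change (η₁.inv ≫ F.map B.a) ≫ F.map T.p ≫ η.hom = v₁
    rw [Category.assoc, ← Category.assoc (F.map B.a), ← F.map_comp, B.ap, hv₁]
  · change (η₁.inv ≫ F.map B.b) ≫ F.map T.p ≫ η.hom = -u₁
    rw [Category.assoc, ← Category.assoc (F.map B.b), ← F.map_comp, B.bp, hu₁, F.map_neg, Preadditive.neg_comp,
      Preadditive.comp_neg]

end Block

end K697.Tri
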